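import Mathlib

/-!
# Anticommuting complex structures in characteristic three

`k` pairwise anticommuting endomorphisms of square `-1` force the dimension to be divisible by `4 ^ (k / 4)`.
-/

set_option autoImplicit false

namespace Cfsg.Lib.Fischer.Disconnected

open Module

variable {V : Type*} [AddCommGroup V] [Module (ZMod 3) V] [FiniteDimensional (ZMod 3) V]

instance : Fact (Nat.Prime 3) := ⟨Nat.prime_three⟩

theorem z3_two_smul {x : V} (h : x + x = 0) : x = 0 := by
  have e : (2 : ZMod 3) • x = 0 := by rw [two_smul]; exact h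
  exact (smul_eq_zero.1 e).resolve_left (by decide)

/-- An involution anticommuting with an injective map has a fixed space of half the dimension. -/
theorem finrank_fixed {h v : Module.End (ZMod 3) V} (hh : ∀ x, h (h x) = x) (hv : Function.Injective v)
    (hhv : ∀ x, h (v x) = -v (h x)) :
    finrank (ZMod 3) V = 2 * finrank (ZMod 3) ↥(LinearMap.ker (h - 1)) := by
  set W := LinearMap.ker (h - 1) with hW
  set W' := LinearMap.ker (h + 1) with hW'
  have mW : ∀ x, x ∈ W ↔ h x = x := fun x => by simp [hW, sub_eq_zero]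
  have mW' : ∀ x, x ∈ W' ↔ h x = -x := fun x => by simp [hW', add_eq_zero_iff_eq_neg]
  have hinf : W ⊓ W' = ⊥ := by
    rw [Submodule.eq_bot_iff]
    rintro x ⟨h1, h2⟩
    have e := ((mW x).1 h1).symm.trans ((mW' x).1 h2)
    exact z3_two_smul (add_eq_zero_iff_eq_neg.2 e)
  have hsup : W ⊔ W' = ⊤ := by
    refine eq_top_iff.2 fun x _ => ?_
    have e : x = (2 : ZMod 3) • (x + h x) + (2 : ZMod 3) • (x - h x) := by
      rw [← smul_add, show x + h x + (x - h x) = (2 : ZMod 3) • x by rw [two_smul]; abel, smul_smul,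
        show (2 : ZMod 3) * 2 = 1 by decide, one_smul]
    rw [e]
    refine Submodule.add_mem_sup (Submodule.smul_mem _ _ ((mW _).2 ?_)) (Submodule.smul_mem _ _ ((mW' _).2 ?_))
    · rw [map_add, hh, add_comm]
    · rw [map_sub, hh, neg_sub]
  have hle : finrank (ZMod 3) W ≤ finrank (ZMod 3) W' :=
    LinearMap.finrank_le_finrank_of_injective (f := v.restrict (q := W') fun x hx =>
      (mW' _).2 (by rw [hhv, (mW x).1 hx])) fun a b e => Subtype.ext (hv (congrArg Subtype.val e))
  have hle' : finrank (ZMod 3) W' ≤ finrank (ZMod 3) W :=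
    LinearMap.finrank_le_finrank_of_injective (f := v.restrict (q := W) fun x hx =>
      (mW _).2 (by rw [hhv, (mW' x).1 hx, map_neg, neg_neg])) fun a b e => Subtype.ext (hv (congrArg Subtype.val e))
  have := Submodule.finrank_sup_add_finrank_inf_eq W W'
  rw [hsup, hinf, finrank_top, finrank_bot] at this
  omega

/-- Four further structures cost a factor four in the dimension. -/
theorem pow_four_dvd : ∀ (j : ℕ) (V : Type*) [AddCommGroup V] [Module (ZMod 3) V] [FiniteDimensional (ZMod 3) V]
    (k : ℕ) (J : Fin k → Module.End (ZMod 3) V), 4 * j ≤ k → (∀ i x, J i (J i x) = -x) →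
    (∀ i l, i ≠ l → ∀ x, J i (J l x) = -J l (J i x)) → 4 ^ j ∣ finrank (ZMod 3) V := by
  intro j
  induction j with
  | zero => intro V _ _ _ k J _ _ _; simp
  | succ j ih =>
    intro V _ _ _ k J hk hsq hanti
    obtain ⟨m, rfl⟩ : ∃ m, k = m + 4 := ⟨k - 4, by omega⟩
    have hab : ∀ i l : Fin (m + 4), (i : ℕ) ≠ (l : ℕ) → ∀ x, J i (J l x) = -J l (J i x) :=
      fun i l h => hanti i l fun e => h (congrArg _ e)
    obtain ⟨a, ha⟩ : ∃ a : Fin (m + 4), (a : ℕ) = 0 := ⟨⟨0, by omega⟩, rfl⟩
    obtain ⟨b, hb⟩ : ∃ b : Fin (m + 4), (b : ℕ) = 1 := ⟨⟨1, by omega⟩, rfl⟩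
    obtain ⟨c, hc⟩ : ∃ c : Fin (m + 4), (c : ℕ) = 2 := ⟨⟨2, by omega⟩, rfl⟩
    obtain ⟨d, hd⟩ : ∃ d : Fin (m + 4), (d : ℕ) = 3 := ⟨⟨3, by omega⟩, rfl⟩
    obtain ⟨r, hr⟩ : ∃ r : Fin m → Fin (m + 4), ∀ i, (r i : ℕ) = (i : ℕ) + 4 :=
      ⟨fun i => ⟨i + 4, by omega⟩, fun _ => rfl⟩
    have hinj : ∀ i, Function.Injective (J i) := fun i x y e => by
      have := congrArg (J i) e
      rwa [hsq, hsq, neg_inj] at this
    let h : Module.End (ZMod 3) V := J a * J b * J c
    have hh_apply : ∀ x, h x = J a (J b (J c x)) := fun x => rfl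
    have anti : ∀ i : Fin (m + 4), (i : ℕ) ≠ 0 → (i : ℕ) ≠ 1 → (i : ℕ) ≠ 2 → ∀ x, h (J i x) = -J i (h x) := fun i h0 h1 h2 x => by
      rw [hh_apply, hh_apply, hab c i (by omega), map_neg, map_neg, hab b i (by omega), map_neg, neg_neg,
        hab a i (by omega)]
    have comm_a : ∀ x, h (J a x) = J a (h x) := fun x => by
      rw [hh_apply, hh_apply, hab c a (by omega), map_neg, map_neg, hab b a (by omega), map_neg, neg_neg]
    have comm_b : ∀ x, h (J b x) = J b (h x) := fun x => by
      rw [hh_apply, hh_apply, hab c b (by omega), map_neg, map_neg, hsq b, map_neg, neg_neg, hab b a (by omega),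
        hsq b, map_neg]
      simp [hsq]
    have hh : ∀ x, h (h x) = x := fun x => by
      rw [hh_apply (h x), hh_apply, hab c a (by omega), map_neg, map_neg, hab b a (by omega), map_neg, neg_neg,
        hsq a, hab c b (by omega)]
      simp [hsq]
    have hV := finrank_fixed hh (hinj d) (anti d (by omega) (by omega) (by omega))
    set W := LinearMap.ker (h - 1) with hW
    have mW : ∀ x, x ∈ W ↔ h x = x := fun x => by simp [hW, sub_eq_zero]
    have stA : ∀ x ∈ W, J a x ∈ W := fun x hx => (mW _).2 (by rw [comm_a, (mW x).1 hx])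
    have stB : ∀ x ∈ W, J b x ∈ W := fun x hx => (mW _).2 (by rw [comm_b, (mW x).1 hx])
    have stK : ∀ i x, x ∈ W → J d (J (r i) x) ∈ W := fun i x hx => (mW _).2 (by
      rw [anti d (by omega) (by omega) (by omega), anti (r i) (by have := hr i; omega) (by have := hr i; omega)
        (by have := hr i; omega), map_neg, neg_neg, (mW x).1 hx])
    let u : Module.End (ZMod 3) W := (J a).restrict stA + (J b).restrict stB
    let v : Module.End (ZMod 3) W := (J a).restrict stA - (J b).restrict stB
    have hu_apply : ∀ x : W, (u x : V) = J a x + J b x := fun x => rfl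
    have hv_apply : ∀ x : W, (v x : V) = J a x - J b x := fun x => rfl
    have h3 : ∀ x : V, -x + -x = x := fun x => by
      rw [← sub_eq_zero, show -x + -x - x = -((3 : ZMod 3) • x) by
        rw [show (3 : ZMod 3) = 1 + 1 + 1 by decide, add_smul, add_smul, one_smul]; abel,
        show (3 : ZMod 3) = 0 by decide, zero_smul, neg_zero]
    have hu : ∀ x, u (u x) = x := fun x => Subtype.ext (by
      rw [hu_apply, hu_apply, map_add, map_add, hsq, hsq, hab b a (by omega)]
      exact (by abel_nf : _ = -(x : V) + -(x : V)).trans (h3 _))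
    have hv2 : ∀ x, v (v x) = x := fun x => Subtype.ext (by
      rw [hv_apply, hv_apply, map_sub, map_sub, hsq, hsq, hab b a (by omega)]
      exact (by abel_nf : _ = -(x : V) + -(x : V)).trans (h3 _))
    have huv : ∀ x, u (v x) = -v (u x) := fun x => Subtype.ext (by
      rw [hu_apply, hv_apply, Submodule.coe_neg, hv_apply, hu_apply, map_sub, map_sub, map_add, map_add, hsq, hsq,
        hab b a (by omega)]
      abel)
    have hW2 := finrank_fixed hu (Function.LeftInverse.injective hv2) huv
    set U := LinearMap.ker (u - 1) with hU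
    have mU : ∀ x, x ∈ U ↔ u x = x := fun x => by simp [hU, sub_eq_zero]
    let K : Fin m → Module.End (ZMod 3) W := fun i => (J d * J (r i)).restrict fun x hx => stK i x hx
    have hK_apply : ∀ i (x : W), (K i x : V) = J d (J (r i) x) := fun i x => rfl
    have ja : ∀ l : Fin (m + 4), ∀ i x, (l : ℕ) < 2 → J d (J (r i) (J l x)) = J l (J d (J (r i) x)) := fun l i x hl => by
      rw [hab (r i) l (by have := hr i; omega), map_neg, hab d l (by omega), neg_neg]
    have stU : ∀ i, ∀ x ∈ U, K i x ∈ U := fun i x hx => (mU _).2 (Subtype.ext (by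
      rw [hu_apply, hK_apply]
      conv_rhs => rw [show x = u x from ((mU x).1 hx).symm, hu_apply, map_add, map_add]
      rw [ja a i _ (by omega), ja b i _ (by omega)]))
    have := ih ↥U m (fun i => (K i).restrict (stU i)) (by omega) (fun i x => Subtype.ext (Subtype.ext (by
      show (K i (K i x) : V) = -((x : W) : V)
      rw [hK_apply, hK_apply, hab (r i) d (by have := hr i; omega), map_neg, hsq, neg_neg, hsq])))
      fun i l hil x => Subtype.ext (Subtype.ext (by
      show (K i (K l x) : V) = -(K l (K i x) : V)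
      have hne : (r i : ℕ) ≠ (r l : ℕ) := fun e => hil (Fin.ext (by rw [hr, hr] at e; omega))
      rw [hK_apply, hK_apply, hK_apply, hK_apply, hab (r i) d (by have := hr i; omega),
        hab (r l) d (by have := hr l; omega), map_neg, map_neg, hsq, hsq, neg_neg, neg_neg, hab (r i) (r l) hne]))
    rw [hV, hW2, ← mul_assoc, show 2 * 2 = 4 from rfl, pow_succ']
    exact Nat.mul_dvd_mul_left 4 this

end Cfsg.Lib.Fischer.Disconnected
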