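import Cfsg.Agent.Lib.Fischer.Thm.List

/-!
# The data carried by one coset of a disconnected class

Members of two cosets pair off, so that products of commuting members of one coset displace every member of
another to a different commuting member.
-/

set_option autoImplicit false

namespace Cfsg.Lib.Fischer.Disconnected

open Cfsg Cfsg.Lib.Fischer

variable {H : Type*} [Group H]

/-- An involution moving every member to another member commuting with it. -/
def Displacing (B : Set H) (t : H) : Prop := t * t = 1 ∧ ∀ z ∈ B, t * z * t⁻¹ ∈ perp B z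

/-- The consequences of the pairing of the cosets. -/
structure Paired (B : Set H) : Prop where
  clique : ∀ (k : ℕ) (f : Fin (k + 1) → H), Function.Injective f → (∀ i, f i ∈ B) →
    (∀ i j, Commute (f i) (f j)) →
      ∃ t : Fin k → H, (∀ i, Displacing B (t i)) ∧ ∀ i j, i ≠ j → Displacing B (t i * t j)
  square : B.ncard ^ 2 ∣ Nat.card H

/-- The possibilities for the derived group of a paired class. -/
def Outcome (H : Type*) [Group H] : Prop :=
  ∃ k, Nat.card (MulAut ↥(commutator H)) = k * Nat.card ↥(commutator H) ∧
    (k = 2 ∨ (k ∣ 24 ∧ (Nonempty (↥(commutator H) ≃* Cfsg.Omega (ZMod 2) (Cfsg.quadFormPlus 4 (ZMod 2))) ∨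
      Nonempty (↥(commutator H) ≃* Cfsg.POmega (ZMod 3) (Cfsg.quadFormPlus 4 (ZMod 3))))))

variable [Finite H] {B : Set H}

theorem exists_displacing (hF : IsFischer B) (hP : Paired B) : ∃ t, Displacing B t := by
  obtain ⟨a, ha, b, hb, hne, hc⟩ := exists_commute hF.toTrans hF.sol
  obtain ⟨t, ht, -⟩ := hP.clique 1 ![a, b]
    (fun i j h => by fin_cases i <;> fin_cases j <;> simp_all)
    (fun i => by fin_cases i <;> simp [ha, hb])
    fun i j => by
      fin_cases i <;> fin_cases j <;> simp [Commute.refl, hc, hc.symm]
  exact ⟨t 0, ht 0⟩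

/-- An involution without fixed members makes their number even. -/
theorem even_ncard {t : H} (ht : Displacing B t) : Even B.ncard := by
  classical
  haveI := Fintype.ofFinite H
  rw [Set.ncard_eq_toFinset_card']
  have h : ∑ _z ∈ B.toFinset, (1 : ZMod 2) = 0 :=
    Finset.sum_involution (fun z _ => t * z * t⁻¹) (fun z _ => by decide)
      (fun z hz _ => (ht.2 z (Set.mem_toFinset.1 hz)).2.1)
      (fun z hz => Set.mem_toFinset.2 (ht.2 z (Set.mem_toFinset.1 hz)).1)
      fun z _ => by
        rw [show t * (t * z * t⁻¹) * t⁻¹ = (t * t) * z * (t * t)⁻¹ by group, ht.1]; simp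
  rw [Finset.sum_const, nsmul_eq_mul, mul_one] at h
  exact (ZMod.natCast_eq_zero_iff_even).1 h

end Cfsg.Lib.Fischer.Disconnected
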