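import Cfsg.Agent.Lib.Fischer.Disconnected.Defs
import Cfsg.Agent.S0817
import Cfsg.Agent.S0818

/-!
# Orthogonal groups over two elements
-/

set_option autoImplicit false
set_option maxHeartbeats 800000

namespace Cfsg.Lib.Fischer.Disconnected

open Cfsg Cfsg.Lib.Fischer

universe u

/-- Derived groups of isomorphic groups. -/
noncomputable def commCongr {X Y : Type*} [Group X] [Group Y] (e : X ≃* Y) :
    ↥(commutator X) ≃* ↥(commutator Y) :=
  (e.subgroupMap (commutator X)).trans (MulEquiv.subgroupCongr (by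
    rw [commutator_def, commutator_def, Subgroup.map_commutator, Subgroup.map_top_of_surjective _ e.surjective]))

/-- A centreless group is its own quotient by the centre. -/
theorem quot_center {X : Type*} [Group X] (h : Subgroup.center X = ⊥) : Nonempty (X ≃* X ⧸ Subgroup.center X) :=
  ⟨((QuotientGroup.quotientMulEquivOfEq h).trans QuotientGroup.quotientBot).symm⟩

theorem map_center {X Y : Type*} [Group X] [Group Y] (e : X ≃* Y) :
    (Subgroup.center X).map e.toMonoidHom = Subgroup.center Y := by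
  ext y
  rw [Subgroup.mem_map_equiv, Subgroup.mem_center_iff, Subgroup.mem_center_iff]
  refine ⟨fun h z => e.symm.injective (by simpa using h (e.symm z)), fun h z => e.injective (by simpa using h (e z))⟩

variable {H : Type u} [Group H] [Finite H] {B : Set H} (hF : IsFischer B)

include hF

/-- The derived group of a group of Fischer's kind has trivial centre. -/
theorem center_derived : Subgroup.center ↥(commutator H) = ⊥ := by
  have h := hF.sol ((Subgroup.center ↥(commutator H)).map (commutator H).subtype) inferInstance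
    (Group.isSolvable_of_comm fun a b => Subtype.ext (by
      obtain ⟨x, hx, hxa⟩ := a.2
      obtain ⟨y, hy, hyb⟩ := b.2
      rw [Subgroup.coe_mul, Subgroup.coe_mul, ← hxa, ← hyb, ← map_mul, ← map_mul,
        Subgroup.mem_center_iff.1 hy x]))
  exact (Subgroup.map_eq_bot_iff_of_injective _ (commutator H).subtype_injective).1 h

theorem of_pomega {ι : Type} [Fintype ι] [DecidableEq ι] {F : Type} [Field F] {Q : (ι → F) → F}
    (e : H ≃* ↥(isometryGroup F Q)) :
    Nonempty (↥(commutator H) ≃* Cfsg.POmega F Q) ∧ Nonempty (↥(commutator H) ≃* Cfsg.Omega F Q) := by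
  have e1 : ↥(commutator H) ≃* ↥(Cfsg.Omega F Q) := commCongr e
  obtain ⟨e2⟩ := quot_center (center_derived hF)
  exact ⟨⟨e2.trans (QuotientGroup.congr _ _ e1 (map_center e1))⟩, ⟨e1⟩⟩

theorem card_aut_of_iso {P : Type*} [Group P] (e : ↥(commutator H) ≃* P) {k : ℕ}
    (h : Nat.card (MulAut P) = k * Nat.card P) :
    Nat.card (MulAut ↥(commutator H)) = k * Nat.card ↥(commutator H) := by
  rw [Nat.card_congr (MulAut.congr e).toEquiv, h, Nat.card_congr e.toEquiv]

/-- The hyperbolic groups. -/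
theorem outcome_plus {m : ℕ} (h : Thm.IsOPlus H B m) (hm : 4 ≤ m) : Outcome H := by
  haveI : Fact (Nat.Prime 2) := ⟨Nat.prime_two⟩
  obtain ⟨e, -⟩ := h
  obtain ⟨⟨e1⟩, e2⟩ := of_pomega hF e
  have hA := card_aut_of_iso hF e1 (Cfsg.Agent.S0817.result (F := ZMod 2) 2 1 le_rfl (by simp) m hm)
  rw [if_pos rfl] at hA
  by_cases h4 : m = 4
  · subst h4
    exact ⟨6, by rw [hA]; norm_num, Or.inr ⟨by norm_num, Or.inl e2⟩⟩
  · exact ⟨2, by rw [hA, if_neg h4], Or.inl rfl⟩

omit hF in
theorem minus_anisotropic : ∀ z₁ z₂ : ZMod 2, z₁ ^ 2 + 1 * z₁ * z₂ + 1 * z₂ ^ 2 = 0 → z₁ = 0 ∧ z₂ = 0 := by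
  decide

/-- The elliptic groups. -/
theorem outcome_minus {m : ℕ} (h : Thm.IsOMinus H B m) (hm : 3 ≤ m) : Outcome H := by
  haveI : Fact (Nat.Prime 2) := ⟨Nat.prime_two⟩
  obtain ⟨e, -⟩ := h
  obtain ⟨⟨e1⟩, -⟩ := of_pomega hF e
  have key := minus_anisotropic
  have hA := card_aut_of_iso hF (P := Cfsg.POmega (ZMod 2) (Cfsg.quadFormMinus ((m + 1) - 1) (ZMod 2) 1 1))
    e1 (Cfsg.Agent.S0818.result (F := ZMod 2) 2 1 le_rfl (by simp) (m + 1) (by omega) 1 1 key)
  rw [if_pos rfl] at hA
  exact ⟨2, by rw [hA], Or.inl rfl⟩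

end Cfsg.Lib.Fischer.Disconnected
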