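import Cfsg.Agent.Lib.Fischer.Disconnected.ReflGroup
import Cfsg.Agent.Lib.Fischer.Disconnected.Orth
import Cfsg.Agent.Lib.H3.SylTwoDiag
import Cfsg.Agent.Lib.H3.PGOQuot
import Cfsg.Agent.Lib.Linear.OrthReflThree

/-!
# The eight-dimensional reflection group with displacing involutions is hyperbolic
-/

set_option autoImplicit false
set_option maxHeartbeats 800000
set_option linter.unusedSectionVars false

namespace Cfsg.Lib.Fischer.Disconnected

open Cfsg Cfsg.Lib.Fischer Cfsg.Lib.Fischer.Thm.Refl Cfsg.Lib.Linear.Orth Cfsg.Lib.H3.SylTwo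
open scoped Matrix

universe u

variable {H : Type u} [Group H] [Finite H] {B : Set H}

/-- The coefficients of the hyperbolic form in a diagonal shape. -/
def plusDiag : Fin 4 ⊕ Fin 4 → ZMod 3 := Sum.elim (fun _ => 1) (fun _ => 2)

theorem plusDiag_ne : ∀ i, plusDiag i ≠ 0 := by decide

theorem plusDiag_square : ∀ c : ZMod 3, c ≠ 0 → IsSquare ((∏ _i : Fin 8, c) * ∏ i, plusDiag i) := by
  have key : ∀ c : ZMod 3, c ≠ 0 → (∏ _i : Fin 8, c) * ∏ i, plusDiag i = 1 := by decide
  exact fun c hc => (key c hc) ▸ IsSquare.one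

/-- That shape is the hyperbolic form. -/
theorem plusDiag_map : FormMap (diagQ plusDiag) (Cfsg.quadFormPlus 4 (ZMod 3)) := by
  refine ⟨LinearMap.pi (Sum.elim (fun i => LinearMap.proj (.inl i) + LinearMap.proj (.inr i))
    (fun i => LinearMap.proj (.inl i) - LinearMap.proj (.inr i))), fun v => ?_⟩
  simp [diagQ, plusDiag, Cfsg.quadFormPlus, Fintype.sum_sum_type, Fin.sum_univ_four]
  have h3 : (3 : ZMod 3) = 0 := by decide
  linear_combination -(v (.inr 0) ^ 2 + v (.inr 1) ^ 2 + v (.inr 2) ^ 2 + v (.inr 3) ^ 2) * h3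

/-- An orthogonal basis of vectors of one norm makes the form hyperbolic. -/
theorem nonempty_iso_plus (Q : QuadraticForm (ZMod 3) (Fin 8 → ZMod 3))
    (hQ : (QuadraticMap.polarBilin Q).Nondegenerate) {c : ZMod 3} (hc : c ≠ 0) (f : Fin 8 → Fin 8 → ZMod 3)
    (hf : ∀ i, IsUnitVec (unitForm Q c) (f i)) (ho : ∀ i j, i ≠ j → unitForm Q c (f i) (f j) = 0) :
    Nonempty (↥(isometryGroup (ZMod 3) (⇑Q)) ≃* ↥(isometryGroup (ZMod 3) (Cfsg.quadFormPlus 4 (ZMod 3)))) := by
  classical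
  have C := space_of_quadraticForm Q hQ
  have h2 : (2 : ZMod 3) ≠ 0 := by decide
  have h1 : FormMap (diagQ fun _ : Fin 8 => c) (⇑Q) := by
    refine ⟨Fintype.linearCombination (ZMod 3) f, fun v => ?_⟩
    refine mul_left_cancel₀ h2 ?_
    have hff : ∀ i, QuadraticMap.polarBilin Q (f i) (f i) = 2 * c := fun i => by
      rw [C.self, (unit_iff hQ hc _).1 (hf i)]
    have hij : ∀ i j, i ≠ j → QuadraticMap.polarBilin Q (f i) (f j) = 0 := fun i j h =>
      (mul_eq_zero.1 ((unitForm_apply Q c _ _).symm.trans (ho i j h))).resolve_left hc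
    rw [← C.self, Fintype.linearCombination_apply, diagQ, Finset.mul_sum]
    simp only [map_sum, map_smul, LinearMap.sum_apply, LinearMap.smul_apply, smul_eq_mul]
    refine Finset.sum_congr rfl fun i _ => ?_
    rw [Finset.sum_eq_single i (fun j _ h => by simp [hij j i h])
      (fun h => absurd (Finset.mem_univ i) h), hff]
    ring
  have hd : ∀ i : Fin 8, (fun _ : Fin 8 => c) i ≠ 0 := fun _ => hc
  obtain ⟨e1⟩ := h1.nonempty_mulEquiv (diag_space h2 hd) (by simp)
  have h3 := (diag_map h2 (fun _ : Fin 8 => c) plusDiag hd plusDiag_ne (by simp)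
    (plusDiag_square c hc)).trans plusDiag_map
  obtain ⟨e2⟩ := h3.nonempty_mulEquiv (diag_space h2 hd) (by simp)
  exact ⟨e1.symm.trans e2⟩

variable (hF : IsFischer B) (hP : Paired B)

include hF hP

/-- A paired reflection group is `PΩ⁺(8, 3)`. -/
theorem outcome_refl {n : ℕ} {μ c : ZMod 3} (h : Thm.IsRefl H B n μ c) (hn : 5 ≤ n) : Outcome H := by
  classical
  haveI : Fact (Nat.Prime 3) := ⟨Nat.prime_three⟩
  obtain ⟨Q, hQ, -, hc, e, he⟩ := h
  obtain rfl := dim_eight hQ hc e he hF hP hn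
  have hB := unitForm_form hQ hc
  have C := space_of_quadraticForm Q hQ
  obtain ⟨t, ht⟩ := exists_displacing hF hP
  obtain ⟨g, hg⟩ := QuotientGroup.mk_surjective (e t)
  obtain ⟨f, hf, ho, -⟩ := exists_pairs hB (actLin g) (lift_skew hQ hc e he hn ht hg).1 (act_form hQ hc g) 4
    (by rw [Module.finrank_fin_fun])
  obtain ⟨E⟩ := nonempty_iso_plus Q hQ hc f hf ho
  set R := reflectionSubgroup (⇑Q) c with hR
  have hle : commutator ↥(isometryGroup (ZMod 3) (⇑Q)) ≤ R := by
    haveI := reflectionSubgroup_normal C hc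
    haveI : Fact (Nat.Prime 2) := ⟨Nat.prime_two⟩
    haveI : IsCyclic (↥(isometryGroup (ZMod 3) (⇑Q)) ⧸ R) :=
      isCyclic_of_prime_card (p := 2) (reflectionSubgroup_index C (by simp) hc)
    letI := IsCyclic.commGroup (α := ↥(isometryGroup (ZMod 3) (⇑Q)) ⧸ R)
    have h := Abelianization.commutator_subset_ker (QuotientGroup.mk' R)
    rwa [QuotientGroup.ker_mk'] at h
  obtain ⟨ψ, hψ⟩ : ∃ ψ : ↥(commutator ↥(isometryGroup (ZMod 3) (⇑Q))) →* H,
      ∀ x, ψ x = e.symm (QuotientGroup.mk (Subgroup.inclusion hle x)) :=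
    ⟨(e.symm.toMonoidHom.comp (QuotientGroup.mk' _)).comp (Subgroup.inclusion hle), fun _ => rfl⟩
  have hperf : commutator ↥(Cfsg.Omega (ZMod 3) (⇑Q)) = ⊤ := Cfsg.Lib.H3.omega_perfect C (by simp)
  have hrange : ψ.range = commutator H := by
    refine le_antisymm ?_ ?_
    · rw [MonoidHom.range_eq_map,
        show (⊤ : Subgroup ↥(commutator ↥(isometryGroup (ZMod 3) (⇑Q)))) = ⁅⊤, ⊤⁆ from hperf.symm.trans (commutator_def _),
        Subgroup.map_commutator]
      exact Subgroup.commutator_mono le_top le_top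
    · intro y hy
      have hsurj : Function.Surjective (e.symm.toMonoidHom.comp (QuotientGroup.mk' (Subgroup.center ↥R))) :=
        e.symm.surjective.comp QuotientGroup.mk_surjective
      rw [commutator_def, ← Subgroup.map_top_of_surjective _ hsurj, ← Subgroup.map_commutator] at hy
      obtain ⟨x, hx, rfl⟩ := hy
      have hx' : (x : ↥(isometryGroup (ZMod 3) (⇑Q))) ∈ commutator ↥(isometryGroup (ZMod 3) (⇑Q)) := by
        have h : Subgroup.map R.subtype ⁅(⊤ : Subgroup ↥R), (⊤ : Subgroup ↥R)⁆ ≤ commutator ↥(isometryGroup (ZMod 3) (⇑Q)) := by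
          rw [Subgroup.map_commutator]; exact Subgroup.commutator_mono le_top le_top
        exact h ⟨x, hx, rfl⟩
      exact ⟨⟨x, hx'⟩, hψ _⟩
  obtain ⟨φ, hφ⟩ : ∃ φ : ↥(Cfsg.Omega (ZMod 3) (⇑Q)) →* ↥(commutator H), ∀ x, (φ x : H) = ψ x :=
    ⟨ψ.codRestrict (commutator H) fun x => hrange.le ⟨x, rfl⟩, fun _ => rfl⟩
  have hφs : Function.Surjective φ := fun y => by
    obtain ⟨x, hx⟩ := hrange.ge y.2
    exact ⟨x, Subtype.ext ((hφ x).trans hx)⟩
  have hker : φ.ker = Subgroup.center ↥(Cfsg.Omega (ZMod 3) (⇑Q)) := by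
    refine le_antisymm (fun x hx => ?_) fun x hx => ?_
    · have h1 : ψ x = 1 := (hφ x).symm.trans (congrArg Subtype.val (MonoidHom.mem_ker.1 hx))
      rw [hψ, EmbeddingLike.map_eq_one_iff, QuotientGroup.eq_one_iff] at h1
      refine Subgroup.mem_center_iff.2 fun y => Subtype.ext ?_
      exact congrArg (fun z : ↥R => (z : ↥(isometryGroup (ZMod 3) (⇑Q))))
        (Subgroup.mem_center_iff.1 h1 (Subgroup.inclusion hle y))
    · rw [MonoidHom.mem_ker, ← Subgroup.mem_bot, ← center_derived hF, Subgroup.mem_center_iff]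
      intro y
      obtain ⟨y, rfl⟩ := hφs y
      rw [← map_mul, ← map_mul, Subgroup.mem_center_iff.1 hx y]
  let e1 : ↥(commutator H) ≃* Cfsg.POmega (ZMod 3) (⇑Q) :=
    ((QuotientGroup.quotientMulEquivOfEq hker.symm).trans (QuotientGroup.quotientKerEquivOfSurjective φ hφs)).symm
  let e2 : ↥(commutator H) ≃* Cfsg.POmega (ZMod 3) (Cfsg.quadFormPlus 4 (ZMod 3)) :=
    e1.trans (QuotientGroup.congr _ _ (commCongr E) (map_center _))
  have hA := card_aut_of_iso hF e2 (Cfsg.Agent.S0817.result (F := ZMod 3) 3 1 le_rfl (by simp) 4 le_rfl)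
  rw [if_pos rfl, if_neg (by norm_num), if_pos (by decide)] at hA
  exact ⟨24, by rw [hA], Or.inr ⟨dvd_rfl, Or.inr ⟨e2⟩⟩⟩

end Cfsg.Lib.Fischer.Disconnected
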