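import Cfsg.Agent.Lib.Fischer.Disconnected.Defs
import Cfsg.Agent.Lib.Fischer.Thm.Sp.Chart
import Cfsg.Agent.Lib.Fischer.Thm.Unitary.Chart
import Cfsg.Agent.Lib.Fischer.Thm.M22
import Cfsg.Agent.Lib.Fischer.Thm.SmallIso.Unitary
import Cfsg.Agent.Lib.Fischer.Relations.Centralizer.Order
import Cfsg.Agent.Lib.Fischer.Relations.Twenty.Order
import Cfsg.Agent.Lib.Fischer.Relations.TwentyFour.Order

/-!
# Pairs without displacing involutions, and the types M(22), M(23), M(24)
-/

set_option autoImplicit false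
set_option maxHeartbeats 800000

namespace Cfsg.Lib.Fischer.Disconnected

open Cfsg Cfsg.Lib.Fischer Cfsg.Lib.Fischer.Thm

universe u

variable {H : Type u} [Group H] [Finite H] {B : Set H} (hF : IsFischer B) (hP : Paired B)

include hF hP

section
open Thm.Sp

/-- A symplectic group has an odd number of transvections. -/
theorem not_sp {m : ℕ} (h : Thm.IsSp H B m) (hm : 2 ≤ m) : False := by
  classical
  obtain ⟨e, he⟩ := h
  have hB : B = (fun v => e.symm (tvm v)) '' {v : U m | v ≠ 0} := by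
    ext b
    constructor
    · intro hb
      obtain ⟨v, hv, hev⟩ := exists_tvm (he.le ⟨b, hb, rfl⟩)
      exact ⟨v, hv, e.symm_apply_eq.2 hev.symm⟩
    · rintro ⟨v, hv, rfl⟩
      obtain ⟨b, hb, heb⟩ := he.ge (tvm_rank hv)
      show e.symm (tvm v) ∈ B
      rwa [← heb, e.symm_apply_apply]
  obtain ⟨t, ht⟩ := exists_displacing hF hP
  have heven := even_ncard ht
  have hinj : Set.InjOn (fun v => e.symm (tvm v)) {v : U m | v ≠ 0} := fun v hv w _ h =>
    tvm_inj hv (e.symm.injective h)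
  rw [hB, hinj.ncard_image,
    show {v : U m | v ≠ 0} = {(0 : U m)}ᶜ from rfl, Set.ncard_compl, Set.ncard_singleton, Nat.card_eq_fintype_card] at heven
  have hc : Fintype.card (U m) = 2 * 2 ^ (2 * m - 1) := by
    rw [← pow_succ', show 2 * m - 1 + 1 = 2 * m by omega]
    simp [two_mul, pow_add]
  rw [hc] at heven
  obtain ⟨k, hk⟩ := heven
  have := Nat.one_le_two_pow (n := 2 * m - 1)
  omega

end

section
open Cfsg.Lib.Linear.Herm Cfsg.Agent.S1631 Cfsg.Lib.Fischer.RadicalAbelian Cfsg.Lib.Fischer.Polar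

/-- An involution of a unitary group over four elements fixes a transvection. -/
theorem not_psu {n : ℕ} (h : Thm.IsPSU H B n) (hn : 4 ≤ n) : False := by
  classical
  obtain ⟨F, _, _, hF4, e, he⟩ := h
  have hF' : Fintype.card F = 2 ^ 2 := hF4
  have hK := fourField hF'
  obtain ⟨t, ht2, htd⟩ := exists_displacing hF hP
  obtain ⟨g, hg⟩ := QuotientGroup.mk_surjective (e t)
  have hz : g * g ∈ Subgroup.center ↥(Cfsg.SU n F 2) := by
    rw [← QuotientGroup.eq_one_iff, QuotientGroup.mk_mul, hg, ← map_mul, ht2, map_one]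
  obtain ⟨k, hk⟩ := exists_scalar hF' (n := n) (by omega)
    (((g * g : ↥(Cfsg.SU n F 2)) : Matrix.SpecialLinearGroup (Fin n) F) : Matrix (Fin n) (Fin n) F)
    fun X hX => congrArg (fun x : Cfsg.SU n F 2 =>
      ((x.1 : Matrix.SpecialLinearGroup (Fin n) F) : Matrix (Fin n) (Fin n) F)) (Subgroup.mem_center_iff.1 hz ⟨X, hX⟩)
  have e2 : ∀ x, model hF' n g (model hF' n g x) = k • x := fun x => by
    rw [← LinearEquiv.mul_apply, ← map_mul, model_apply, hk, Matrix.scalar_apply]
    exact funext fun i => by rw [Matrix.mulVec_diagonal]; rfl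
  -- a lift of order at most two
  obtain ⟨G', hG'⟩ : ∃ G', G' = g * (g * g) := ⟨_, rfl⟩
  have hG'e : (G' : Cfsg.PSU n F 2) = e t := by
    rw [hG', QuotientGroup.mk_mul, (QuotientGroup.eq_one_iff _).2 hz, mul_one, hg]
  have hk0 : k ≠ 0 := fun h0 => by
    obtain ⟨i⟩ : Nonempty (Fin n) := ⟨⟨0, by omega⟩⟩
    have := e2 (Pi.single i 1)
    rw [h0, zero_smul, LinearEquiv.map_eq_zero_iff, LinearEquiv.map_eq_zero_iff, Pi.single_eq_zero_iff] at this
    exact one_ne_zero this
  have hinv : ∀ x, model hF' n G' (model hF' n G' x) = x := fun x => by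
    simp only [hG', map_mul, LinearEquiv.mul_apply, e2, map_smul, smul_smul]
    rw [show k * (k * k) = 1 by rw [← hK.cube k hk0]; ring, one_smul]
  let X := {v : Fin n → F // v ≠ 0 ∧ hB hF' n v v = 0}
  have hmem : ∀ x : X, model hF' n G' x.1 ≠ 0 ∧ hB hF' n (model hF' n G' x.1) (model hF' n G' x.1) = 0 := fun x =>
    ⟨fun h0 => x.2.1 ((LinearEquiv.map_eq_zero_iff _).1 h0), by rw [model_mem hF' n G' x.1 x.1]; exact x.2.2⟩
  obtain ⟨⟨w, hw0, hww⟩, hfix⟩ : ∃ x : X, (⟨_, hmem x⟩ : X) = x := by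
    by_contra hno
    push Not at hno
    haveI := Fintype.ofFinite X
    have h : ∑ _x : X, (1 : ZMod 2) = 0 :=
      Finset.sum_involution (fun x _ => ⟨_, hmem x⟩) (fun x _ => by decide) (fun x _ _ => hno x)
        (fun x _ => Finset.mem_univ _) fun x _ => Subtype.ext (hinv x.1)
    rw [Finset.sum_const, nsmul_eq_mul, mul_one, Finset.card_univ, ← Nat.card_eq_fintype_card] at h
    exact Nat.not_even_iff_odd.2 (odd_card_isotropic hF' n (by omega)) ((ZMod.natCast_eq_zero_iff_even).1 h)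
  have hfix' : model hF' n G' w = w := congrArg Subtype.val hfix
  obtain ⟨A, hA⟩ := model_surjective hF' n (tvu_mem hK (hB_isSymm hF' n) hww)
    (Units.ext (by rw [tvu, det_qrefl, hww, mul_zero, add_zero]; rfl))
  have hconj : G' * A * G'⁻¹ = A := by
    apply model_injective hF' n
    rw [map_mul, map_mul, map_inv, hA, tvu_conj hK (model_mem hF' n G'), tvu_congr hK _ hww hfix']
  obtain ⟨b, hb, heb⟩ : (A : Cfsg.PSU n F 2) ∈ e '' B := he.ge ⟨A, rank_one_of_tvu hF' hK hww hw0 hA, rfl⟩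
  refine (htd b hb).2.1 (e.injective ?_)
  rw [map_mul, map_mul, map_inv, heb, ← hG'e, ← QuotientGroup.mk_mul, ← QuotientGroup.mk_inv,
    ← QuotientGroup.mk_mul, hconj]

end

/-- A permutation of a set of transpositions fixes one. -/
theorem not_sym {n : ℕ} (h : Thm.IsSym H B n) : False := by
  obtain ⟨e, he⟩ := h
  obtain ⟨t, ht2, htd⟩ := exists_displacing hF hP
  obtain ⟨z, hz⟩ := hF.ne
  obtain ⟨a, ha⟩ : ∃ a, e t a ≠ a := by
    by_contra hno
    push Not at hno
    have ht1 : t = 1 := e.injective ((Equiv.ext hno).trans (map_one e).symm)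
    exact (htd z hz).2.1 (by rw [ht1]; simp)
  have hinv : e t (e t a) = a := by
    rw [← Equiv.Perm.mul_apply, ← map_mul, ht2, map_one, Equiv.Perm.one_apply]
  obtain ⟨b, hb, heb⟩ := he.ge (show (Equiv.swap a (e t a)).IsSwap from ⟨a, e t a, Ne.symm ha, rfl⟩)
  refine (htd b hb).2.1 (e.injective ?_)
  rw [map_mul, map_mul, map_inv, heb, ← Equiv.swap_apply_apply, hinv, Equiv.swap_comm]

theorem not_m22 (h : Cfsg.IsOfTypeM22 H B) : False := by
  obtain ⟨h1, h2, -⟩ := Relations.m22_order hF.toTrans (primitive_of_isFischer hF) h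
  have hs := hP.square
  rw [h1, h2] at hs
  norm_num at hs

theorem not_m23 (h : Cfsg.IsOfTypeM23 H B) : False := by
  obtain ⟨-, h1, h2, -⟩ := Relations.m23_order hF.toTrans (primitive_of_isFischer hF) h
  have hs := hP.square
  rw [h1, h2] at hs
  norm_num at hs

theorem not_m24 (h : Cfsg.IsOfTypeM24 H B) : False := by
  obtain ⟨d, K⟩ := Relations.m24_data hF.toTrans (primitive_of_isFischer hF) h
  obtain ⟨h1, h2, -⟩ := Relations.M24Data.main K
  have hs := hP.square
  rw [h1, h2] at hs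
  norm_num at hs

end Cfsg.Lib.Fischer.Disconnected
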