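import Cfsg.Agent.Lib.Fischer.Disconnected.Setup
import Cfsg.Agent.Lib.Fischer.Disconnected.Small
import Cfsg.Agent.Lib.Fischer.Disconnected.ReflEight
import Cfsg.Agent.Lib.Fischer.Thm.Main
import Cfsg.Agent.Lib.Fischer.Thm.SmallIso

/-!
# Centreless classes with disconnected commuting graph are those of triality

The generalized Fitting subgroup is `Ω⁺(8, 2)` or `PΩ⁺(8, 3)` with quotient the symmetric group of degree three.
-/

set_option autoImplicit false
set_option maxHeartbeats 800000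
set_option linter.unusedSectionVars false
set_option linter.style.haveILetI false

namespace Cfsg.Lib.Fischer.Disconnected

open Cfsg Cfsg.Lib.Fischer

universe u

/-- The outer automorphism count of a paired class from the list. -/
theorem outcome_of_list {H : Type u} [Group H] [Finite H] {B : Set H} (hF : IsFischer B) (hP : Paired B)
    (h : Thm.InList H B) : Outcome H := by
  have hsmall := Thm.smallIsoStep H B
  rcases h with ⟨m, hm, h⟩ | ⟨n, hn, h⟩ | h | h
  · exact (not_sp hF hP h hm).elim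
  · exact (not_psu hF hP h hn).elim
  · exact (not_sym hF hP h).elim
  · rcases h with ⟨n, -, h⟩ | (⟨m, hm, h⟩ | ⟨m, hm, h⟩) | ⟨n, hn, μ, c, h⟩ | h | h | h
    · exact (not_sym hF hP h).elim
    · rcases eq_or_lt_of_le hm with rfl | hm
      · exact (not_sym hF hP (hsmall.1 h)).elim
      · exact outcome_plus hF h hm
    · rcases eq_or_lt_of_le hm with rfl | hm
      · obtain ⟨μ, c, h⟩ := hsmall.2.1 h
        exact outcome_refl hF hP h le_rfl
      · exact outcome_minus hF h hm
    · exact outcome_refl hF hP h hn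
    · exact (not_m22 hF hP h).elim
    · exact (not_m23 hF hP h).elim
    · exact (not_m24 hF hP h).elim

variable {G : Type u} [Group G] [Finite G] {D : Set G} {L : Subgroup G} [L.Normal] (hT : Trans D) (hL : Layer D L)

include hT hL

/-- The number of cosets meeting the class is odd, at least three, and divides the order of the quotient. -/
theorem cosets_count :
    Odd (((QuotientGroup.mk : G → G ⧸ L) '' D).ncard) ∧ 3 ≤ ((QuotientGroup.mk : G → G ⧸ L) '' D).ncard ∧
      ((QuotientGroup.mk : G → G ⧸ L) '' D).ncard ∣ Nat.card (G ⧸ L) := by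
  classical
  haveI := Fintype.ofFinite (G ⧸ L)
  obtain ⟨d, hd⟩ := hT.ne
  obtain ⟨P, hP⟩ : ∃ P : Set (G ⧸ L), P = QuotientGroup.mk '' D := ⟨_, rfl⟩
  rw [← hP]
  have hdP : (d : G ⧸ L) ∈ P := hP ▸ ⟨d, hd, rfl⟩
  have hinv : (d : G ⧸ L)⁻¹ = (d : G ⧸ L) := inv_eq_of_mul_eq_one_right (mk_sq hT hd)
  have hclosed : ∀ g : G ⧸ L, ∀ x ∈ P, g * x * g⁻¹ ∈ P := by
    intro g x hx
    obtain ⟨g, rfl⟩ := QuotientGroup.mk_surjective g
    rw [hP] at hx ⊢
    obtain ⟨y, hy, rfl⟩ := hx
    exact ⟨g * y * g⁻¹, hT.conj g y hy, by simp⟩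
  have hdvd : P.ncard ∣ Nat.card (G ⧸ L) := by
    have h := Relations.card_conj_orbit (K := (⊤ : Subgroup (G ⧸ L))) (X := P) (x := (d : G ⧸ L)) hdP
      (fun g _ x hx => hclosed g x hx) fun x hx => by
        rw [hP] at hx
        obtain ⟨y, hy, rfl⟩ := hx
        obtain ⟨g, rfl⟩ := hT.trans d hd y hy
        exact ⟨(g : G ⧸ L), trivial, by simp⟩
    rw [Subgroup.card_top, Nat.card_coe_set_eq] at h
    exact ⟨_, h⟩
  -- the member `d` fixes only itself
  have hfix : ∀ x ∈ P, (d : G ⧸ L) * x * (d : G ⧸ L)⁻¹ = x → x = (d : G ⧸ L) := by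
    intro x hx he
    rw [hP] at hx
    obtain ⟨y, hy, rfl⟩ := hx
    refine ((mk_eq_iff hT hd).2 (hL.width d hd y hy ((QuotientGroup.eq_one_iff _).1 ?_))).symm
    rw [QuotientGroup.mk_mul, QuotientGroup.mk_mul, QuotientGroup.mk_mul, QuotientGroup.mk_inv, QuotientGroup.mk_inv,
      he, mul_inv_cancel]
  have heven : Even ((P \ {(d : G ⧸ L)}).toFinset.card) := by
    have h : ∑ _x ∈ (P \ {(d : G ⧸ L)}).toFinset, (1 : ZMod 2) = 0 := by
      refine Finset.sum_involution (fun x _ => (d : G ⧸ L) * x * (d : G ⧸ L)⁻¹) (fun x _ => by decide)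
        (fun x hx _ he => ?_) (fun x hx => ?_) fun x _ => ?_
      · rw [Set.mem_toFinset] at hx
        exact hx.2 (hfix x hx.1 he)
      · rw [Set.mem_toFinset] at hx ⊢
        refine ⟨hclosed _ x hx.1, fun he => hx.2 ?_⟩
        rw [Set.mem_singleton_iff, mul_inv_eq_iff_eq_mul, mul_right_inj] at he
        exact he
      · rw [show (d : G ⧸ L) * ((d : G ⧸ L) * x * (d : G ⧸ L)⁻¹) * (d : G ⧸ L)⁻¹ =
          ((d : G ⧸ L) * (d : G ⧸ L)) * x * ((d : G ⧸ L) * (d : G ⧸ L))⁻¹ by group, mk_sq hT hd]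
        simp
    rw [Finset.sum_const, nsmul_eq_mul, mul_one] at h
    exact (ZMod.natCast_eq_zero_iff_even).1 h
  rw [← Set.ncard_eq_toFinset_card'] at heven
  have hsucc := Set.ncard_sdiff_singleton_add_one hdP
  obtain ⟨e, he, hed⟩ := exists_other hT hL hd
  have hpos : 0 < (P \ {(d : G ⧸ L)}).ncard :=
    (Set.ncard_pos (Set.toFinite _)).2 ⟨(e : G ⧸ L), hP ▸ ⟨e, he, rfl⟩, hed⟩
  obtain ⟨q, hq⟩ := heven
  exact ⟨⟨q, by omega⟩, by omega, hdvd⟩

/-- With three cosets the quotient is the symmetric group of degree three. -/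
theorem quotient_perm_three (h3 : ((QuotientGroup.mk : G → G ⧸ L) '' D).ncard = 3) :
    Nonempty (G ⧸ L ≃* Equiv.Perm (Fin 3)) := by
  classical
  obtain ⟨P, hP⟩ : ∃ P : Set (G ⧸ L), P = QuotientGroup.mk '' D := ⟨_, rfl⟩
  rw [← hP] at h3
  have hmem : ∀ {x}, x ∈ P ↔ ∃ y ∈ D, (y : G ⧸ L) = x := by intro x; rw [hP]; rfl
  have hsq : ∀ {x}, x ∈ P → x * x = 1 := fun hx => by obtain ⟨y, hy, rfl⟩ := hmem.1 hx; exact mk_sq hT hy
  have hinv : ∀ {x}, x ∈ P → x⁻¹ = x := fun hx => inv_eq_of_mul_eq_one_right (hsq hx)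
  have hclosed : ∀ g : G ⧸ L, ∀ x ∈ P, g * x * g⁻¹ ∈ P := by
    intro g x hx
    obtain ⟨g, rfl⟩ := QuotientGroup.mk_surjective g
    obtain ⟨y, hy, rfl⟩ := hmem.1 hx
    exact hmem.2 ⟨g * y * g⁻¹, hT.conj g y hy, by simp⟩
  have hfix : ∀ {x y}, x ∈ P → y ∈ P → x * y * x⁻¹ = y → y = x := by
    intro x y hx hy he
    obtain ⟨a, ha, rfl⟩ := hmem.1 hx
    obtain ⟨b, hb, rfl⟩ := hmem.1 hy
    refine ((mk_eq_iff hT ha).2 (hL.width a ha b hb ((QuotientGroup.eq_one_iff _).1 ?_))).symm
    rw [QuotientGroup.mk_mul, QuotientGroup.mk_mul, QuotientGroup.mk_mul, QuotientGroup.mk_inv, QuotientGroup.mk_inv,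
      he, mul_inv_cancel]
  -- three members and what they do
  obtain ⟨x, y, z, hxy, hxz, hyz, hPe⟩ := Set.ncard_eq_three.1 h3
  have hx : x ∈ P := by simp [hPe]
  have hy : y ∈ P := by simp [hPe]
  have hz : z ∈ P := by simp [hPe]
  have hcases : ∀ w ∈ P, w = x ∨ w = y ∨ w = z := fun w hw => by simpa [hPe] using hw
  have hxyz : x * y * x = z := by
    have h1 : x * y * x⁻¹ ∈ P := hclosed x y hy
    rw [hinv hx] at h1
    rcases hcases _ h1 with h | h | h
    · exact absurd (hfix hx hx (by group)) (fun _ => hxy (by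
        have h' : x * y * x⁻¹ = x := by rw [hinv hx]; exact h
        rw [mul_inv_eq_iff_eq_mul, mul_right_inj] at h'
        exact h'.symm))
    · exact absurd (hfix hx hy (by rw [hinv hx]; exact h)).symm hxy
    · exact h
  have hyxz : y * x * y = z := by
    have h1 : y * x * y⁻¹ ∈ P := hclosed y x hx
    rw [hinv hy] at h1
    rcases hcases _ h1 with h | h | h
    · exact absurd (hfix hy hx (by rw [hinv hy]; exact h)) hxy
    · refine absurd ?_ hxy
      have h' : y * x * y⁻¹ = y := by rw [hinv hy]; exact h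
      rw [mul_inv_eq_iff_eq_mul, mul_right_inj] at h'
      exact h'
    · exact h
  have hgen : Subgroup.closure ({x, y} : Set (G ⧸ L)) = ⊤ := by
    rw [eq_top_iff]
    intro g _
    obtain ⟨g, rfl⟩ := QuotientGroup.mk_surjective g
    have hg : g ∈ Subgroup.closure D := hT.gen ▸ Subgroup.mem_top g
    have hle : Subgroup.closure D ≤ (Subgroup.closure ({x, y} : Set (G ⧸ L))).comap (QuotientGroup.mk' L) := by
      rw [Subgroup.closure_le]
      intro w hw
      show (w : G ⧸ L) ∈ Subgroup.closure ({x, y} : Set (G ⧸ L))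
      have hxm : x ∈ Subgroup.closure ({x, y} : Set (G ⧸ L)) := Subgroup.subset_closure (by simp)
      have hym : y ∈ Subgroup.closure ({x, y} : Set (G ⧸ L)) := Subgroup.subset_closure (by simp)
      rcases hcases _ (hmem.2 ⟨w, hw, rfl⟩) with h | h | h <;> rw [h]
      exacts [hxm, hym, hxyz ▸ mul_mem (mul_mem hxm hym) hxm]
    exact hle hg
  have hcard : Nat.card (G ⧸ L) ≤ 6 := by
    let W : Set (G ⧸ L) := {1, x, y, z, x * y, y * x}
    have hall : ∀ g : G ⧸ L, g ∈ W := by
      intro g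
      have hxx := hsq hx
      have hyy := hsq hy
      have key : ∀ s ∈ ({x, y} : Set (G ⧸ L)), ∀ w ∈ W, s * w ∈ W := by
        intro s hs w hw
        have e1 : x * z = y * x := by rw [← hxyz, ← mul_assoc, ← mul_assoc, hxx, one_mul]
        have e2 : y * z = x * y := by rw [← hyxz, ← mul_assoc, ← mul_assoc, hyy, one_mul]
        have e3 : x * (y * x) = z := by rw [← mul_assoc]; exact hxyz
        have e4 : y * (x * y) = z := by rw [← mul_assoc]; exact hyxz
        have e5 : x * (x * y) = y := by rw [← mul_assoc, hxx, one_mul]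
        have e6 : y * (y * x) = x := by rw [← mul_assoc, hyy, one_mul]
        simp only [W, Set.mem_insert_iff, Set.mem_singleton_iff] at hs hw ⊢
        rcases hs with rfl | rfl <;> rcases hw with rfl | rfl | rfl | rfl | rfl | rfl <;> simp [*]
      have hg : g ∈ Subgroup.closure ({x, y} : Set (G ⧸ L)) := hgen ▸ Subgroup.mem_top g
      induction hg using Subgroup.closure_induction_left with
      | one => simp [W]
      | mul_left s hs w _ hw => exact key s hs w hw
      | inv_mul_cancel s hs w _ hw =>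
        have hs' : s ∈ P := by rcases hs with rfl | rfl <;> assumption
        rw [hinv hs']
        exact key s hs w hw
    refine (Nat.card_le_card_of_surjective (![1, x, y, z, x * y, y * x] : Fin 6 → G ⧸ L) fun g => ?_).trans (by simp)
    have := hall g
    simp only [W, Set.mem_insert_iff, Set.mem_singleton_iff] at this
    rcases this with h | h | h | h | h | h
    exacts [⟨0, h.symm⟩, ⟨1, h.symm⟩, ⟨2, h.symm⟩, ⟨3, h.symm⟩, ⟨4, h.symm⟩, ⟨5, h.symm⟩]
  letI : MulAction (G ⧸ L) ↥P :=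
    { smul := fun g w => ⟨g * w * g⁻¹, hclosed g w w.2⟩
      one_smul := fun w => Subtype.ext (show (1 : G ⧸ L) * w * (1 : G ⧸ L)⁻¹ = w by simp)
      mul_smul := fun g h w => Subtype.ext
        (show g * h * w * (g * h)⁻¹ = g * (h * w * h⁻¹) * g⁻¹ by group) }
  have hsmul : ∀ (g : G ⧸ L) (w : ↥P), ((g • w : ↥P) : G ⧸ L) = g * w * g⁻¹ := fun _ _ => rfl
  let φ := MulAction.toPermHom (G ⧸ L) ↥P
  have hswap : ∀ a b : ↥P, a ≠ b → ∃ g, φ g = Equiv.swap a b := by
    intro a b hab
    obtain ⟨c, hca, hcb⟩ : ∃ c : ↥P, c ≠ a ∧ c ≠ b := by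
      by_contra h
      push Not at h
      have hle := Nat.card_le_card_of_surjective (fun t : Bool => if t then a else b) fun w => by
        by_cases hw : w = a
        · exact ⟨true, hw.symm⟩
        · exact ⟨false, (h w hw).symm⟩
      rw [Nat.card_coe_set_eq, h3, Nat.card_eq_fintype_card, Fintype.card_bool] at hle
      omega
    have honly : ∀ w : ↥P, w = a ∨ w = b ∨ w = c := by
      intro w
      by_contra hw
      push Not at hw
      have hsub : ({a, b, c, w} : Finset ↥P).card ≤ 3 := by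
        haveI := Fintype.ofFinite ↥P
        refine (Finset.card_le_univ _).trans ?_
        rw [← Nat.card_eq_fintype_card, Nat.card_coe_set_eq, h3]
      have h4 : ({a, b, c, w} : Finset ↥P).card = 4 := by
        simp [hab, hca.symm, hcb.symm, hw.1.symm, hw.2.1.symm, hw.2.2.symm]
      omega
    refine ⟨c, Equiv.ext fun w => ?_⟩
    have hfixc : ∀ u : ↥P, u ≠ c → ((c : G ⧸ L) • u : ↥P) ≠ u := fun u hu he =>
      hu (Subtype.ext (hfix c.2 u.2 (congrArg Subtype.val he)))
    have hne : ∀ u : ↥P, u ≠ c → ((c : G ⧸ L) • u : ↥P) ≠ c := fun u hu he => by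
      have h := congrArg Subtype.val he
      rw [hsmul, mul_inv_eq_iff_eq_mul, mul_right_inj] at h
      exact hu (Subtype.ext h)
    show ((c : G ⧸ L) • w : ↥P) = Equiv.swap a b w
    rcases honly w with rfl | rfl | rfl
    · rw [Equiv.swap_apply_left]
      exact ((honly _).resolve_left (hfixc _ hca.symm)).resolve_right (hne _ hca.symm)
    · rw [Equiv.swap_apply_right]
      rcases honly ((c : G ⧸ L) • w : ↥P) with h | h | h
      exacts [h, absurd h (hfixc _ hcb.symm), absurd h (hne _ hcb.symm)]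
    · rw [Equiv.swap_apply_of_ne_of_ne hca hcb]
      exact Subtype.ext ((hsmul _ _).trans (by group))
  have hsurj : Function.Surjective φ := by
    rw [← MonoidHom.range_eq_top, eq_top_iff, ← Equiv.Perm.closure_isSwap, Subgroup.closure_le]
    rintro _ ⟨a, b, hab, rfl⟩
    exact hswap a b hab
  have hP3 : Nat.card ↥P = 3 := by rw [Nat.card_coe_set_eq, h3]
  have hbij : Function.Bijective φ := hsurj.bijective_of_nat_card_le (by
    rw [Nat.card_perm, hP3]; exact hcard)
  obtain ⟨q⟩ : Nonempty (↥P ≃ Fin 3) := ⟨(Finite.equivFinOfCardEq hP3)⟩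
  exact ⟨(MulEquiv.ofBijective φ hbij).trans q.permCongrHom⟩

omit hT hL in
/-- The structure of a class with disconnected graph, from Fischer's theorem. -/
theorem triality (S : Thm.Steps.{u}) {F : Subgroup G} [F.Normal] (hD : Cfsg.IsThreeTranspositionClass D)
    (hZ : Subgroup.center G = ⊥) (h2 : Cfsg.pCore 2 G = ⊥) (h3 : Cfsg.pCore 3 G = ⊥)
    (hdisc : ¬ (Cfsg.commutingGraph D).Connected) (hF : F = Cfsg.generalizedFittingSubgroup G) :
    Nonempty (G ⧸ F ≃* Equiv.Perm (Fin 3)) ∧
      (Nonempty (F ≃* Cfsg.Omega (ZMod 2) (Cfsg.quadFormPlus 4 (ZMod 2))) ∨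
        Nonempty (F ≃* Cfsg.POmega (ZMod 3) (Cfsg.quadFormPlus 4 (ZMod 3)))) := by
  have hT := trans_of_class hD
  obtain ⟨L, hLn, hFL, hL⟩ := exists_layer hT hZ h2 h3 hdisc
  rw [hFL] at hF
  subst hF
  haveI := hLn
  obtain ⟨d, hd⟩ := hT.ne
  have hFis := isFischer_cls hT hL hd
  obtain ⟨k, hk, hcases⟩ := outcome_of_list hFis (paired hT hL hd)
    (Thm.classify S _ ↥(grp F d) (cls' D F d) le_rfl hFis).1
  obtain ⟨e⟩ := derived_iso hT hL hd
  rw [Nat.card_congr (MulAut.congr e).toEquiv, Nat.card_congr e.toEquiv] at hk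
  have hdvd : Nat.card (G ⧸ F) ∣ k := by
    have hinj : Function.Injective (MulAut.conjNormal : G →* MulAut ↥F) := by
      rw [injective_iff_map_eq_one]
      intro g hg
      rw [← Subgroup.mem_bot, ← hL.cent, Subgroup.mem_centralizer_iff]
      intro l hl
      have h := congrArg Subtype.val (MulEquiv.congr_fun hg ⟨l, hl⟩)
      rw [MulAut.conjNormal_apply] at h
      exact (mul_inv_eq_iff_eq_mul.1 h).symm
    have h := Subgroup.card_dvd_of_injective _ hinj
    rw [hk, Subgroup.card_eq_card_quotient_mul_card_subgroup F] at h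
    exact Nat.dvd_of_mul_dvd_mul_right Nat.card_pos h
  obtain ⟨hodd, hge, hr⟩ := cosets_count hT hL
  have hrk := hr.trans hdvd
  rcases hcases with rfl | ⟨hk24, htarget⟩
  · exact absurd (Nat.le_of_dvd two_pos hrk) (by omega)
  have hr3 : ((QuotientGroup.mk : G → G ⧸ F) '' D).ncard = 3 := by
    have h24 := hrk.trans hk24
    have hle := Nat.le_of_dvd (by norm_num) h24
    generalize ((QuotientGroup.mk : G → G ⧸ F) '' D).ncard = r at hodd hge h24 hle
    interval_cases r <;> first | rfl | (exfalso; revert h24; decide) | exact absurd hodd (by decide)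
  refine ⟨quotient_perm_three hT hL hr3, ?_⟩
  exact htarget.imp (fun ⟨f⟩ => ⟨e.symm.trans f⟩) fun ⟨f⟩ => ⟨e.symm.trans f⟩

end Cfsg.Lib.Fischer.Disconnected
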