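import Cfsg.Agent.Lib.Fischer.Thm.Refl.Space

/-!
# Isometries moving every unit to an orthogonal one
-/

set_option autoImplicit false
set_option linter.unusedSectionVars false
set_option maxHeartbeats 800000

namespace Cfsg.Lib.Fischer.Disconnected

open Cfsg.Lib.Fischer.Thm.Refl

variable {V : Type*} [AddCommGroup V] [Module (ZMod 3) V] [Module.Finite (ZMod 3) V]
  {B : LinearMap.BilinForm (ZMod 3) V} (hB : Form B)

include hB

/-- Units spanning the quadratic functions: an isometry moving units to orthogonal units is skew. -/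
theorem skew_of_units (hV : 4 ≤ Module.finrank (ZMod 3) V) (g : Module.End (ZMod 3) V)
    (hunit : ∀ a, IsUnitVec B a → B a (g a) = 0) : ∀ u v, B (g u) v = -B u (g v) := by
  have hexp : ∀ u v, B (u + v) (g (u + v)) = B u (g u) + B v (g v) + (B u (g v) + B v (g u)) := fun u v => by
    simp only [map_add, LinearMap.add_apply]; abel
  have hexp' : ∀ u v, B (u - v) (g (u - v)) = B u (g u) + B v (g v) - (B u (g v) + B v (g u)) := fun u v => by
    simp only [map_sub, LinearMap.sub_apply]; abel
  have hnorm : ∀ u v, B u v = 0 → B (u + v) (u + v) = B u u + B v v ∧ B (u - v) (u - v) = B u u + B v v :=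
    fun u v h => by simp [map_add, map_sub, h, hB.symm v u]
  have key : ∀ s t : ZMod 3, s + t = 0 → s - t = 0 → s = 0 := by decide
  have h0 : ∀ u, B u u = 0 → B u (g u) = 0 := by
    intro u hu
    by_cases hu0 : u = 0
    · simp [hu0]
    obtain ⟨y, hy, huy⟩ := exists_unit_perp hB hV ⟨hu0, hu⟩
    obtain ⟨n1, n2⟩ := hnorm u y huy
    have e1 := hunit (u + y) (by rw [IsUnitVec, n1, hu, (show B y y = 2 from hy), zero_add])
    have e2 := hunit (u - y) (by rw [IsUnitVec, n2, hu, (show B y y = 2 from hy), zero_add])
    rw [hexp, hunit y hy, add_zero] at e1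
    rw [hexp', hunit y hy, add_zero] at e2
    exact key _ _ e1 e2
  have hall : ∀ v, B v (g v) = 0 := by
    intro v
    rcases z3_cases (B v v) with h | h | h
    · exact h0 v h
    · obtain ⟨y, hy, hyy⟩ := exists_norm_perp hB ![v] (by omega) (fun i => by fin_cases i; simp [h])
        (fun i j hij => absurd (Subsingleton.elim i j) hij) (t := 2) (by decide)
      have hvy : B v y = 0 := by simpa using hy 0
      obtain ⟨n1, n2⟩ := hnorm v y hvy
      have e1 := h0 (v + y) (by rw [n1, h, hyy]; decide)
      have e2 := h0 (v - y) (by rw [n2, h, hyy]; decide)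
      rw [hexp, hunit y hyy, add_zero] at e1
      rw [hexp', hunit y hyy, add_zero] at e2
      exact key _ _ e1 e2
    · exact hunit v (h.trans (by decide))
  intro u v
  have h := hexp u v
  rw [hall, hall, hall, zero_add, zero_add] at h
  rw [hB.symm (g u) v]
  exact eq_neg_of_add_eq_zero_right h.symm

/-- A skew isometry squares to `-1`. -/
theorem sq_of_skew (g : Module.End (ZMod 3) V) (hg : ∀ u v, B (g u) v = -B u (g v))
    (hiso : ∀ u v, B (g u) (g v) = B u v) (x : V) : g (g x) = -x := by
  refine eq_neg_of_add_eq_zero_left (hB.nondeg _ fun w => ?_)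
  rw [map_add, LinearMap.add_apply, hg, hiso, neg_add_cancel]

/-- An orthogonal family of units. -/
theorem exists_frame : ∀ k, k + 1 ≤ Module.finrank (ZMod 3) V →
    ∃ f : Fin k → V, (∀ i, IsUnitVec B (f i)) ∧ ∀ i j, i ≠ j → B (f i) (f j) = 0 := by
  intro k
  induction k with
  | zero => exact fun _ => ⟨Fin.elim0, fun i => i.elim0, fun i => i.elim0⟩
  | succ k ih =>
    intro hk
    obtain ⟨f, hf, ho⟩ := ih (by omega)
    obtain ⟨z, hz, hzz⟩ := exists_norm_perp hB f (by omega) (fun i => by rw [hf i]; decide) ho (t := 2) (by decide)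
    refine ⟨Fin.snoc f z, fun i => ?_, fun i j => ?_⟩
    · refine Fin.lastCases ?_ (fun a => ?_) i
      · rw [Fin.snoc_last]; exact hzz
      · rw [Fin.snoc_castSucc]; exact hf a
    · refine Fin.lastCases ?_ (fun a => ?_) i <;> refine Fin.lastCases ?_ (fun b => ?_) j <;>
        simp only [Fin.snoc_last, Fin.snoc_castSucc]
      · exact fun h => absurd rfl h
      · intro
        rw [hB.symm]; exact hz b
      · exact fun _ => hz a
      · exact fun h => ho a b fun e => h (by rw [e])

/-- An orthogonal basis of units out of a skew isometry. -/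
theorem exists_pairs (g : Module.End (ZMod 3) V) (hg : ∀ u v, B (g u) v = -B u (g v))
    (hiso : ∀ u v, B (g u) (g v) = B u v) : ∀ k, 2 * k ≤ Module.finrank (ZMod 3) V →
    ∃ f : Fin (2 * k) → V, (∀ i, IsUnitVec B (f i)) ∧ (∀ i j, i ≠ j → B (f i) (f j) = 0) ∧
      ∀ x, (∀ i, B (f i) x = 0) → ∀ i, B (f i) (g x) = 0 := by
  intro k
  induction k with
  | zero => exact fun _ => ⟨Fin.elim0, fun i => i.elim0, fun i => i.elim0, fun _ _ i => i.elim0⟩
  | succ k ih =>
    intro hk
    obtain ⟨f, hf, ho, hperp⟩ := ih (by omega)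
    obtain ⟨z, hz, hzz⟩ := exists_norm_perp hB f (by omega) (fun i => by rw [hf i]; decide) ho (t := 2) (by decide)
    have hgz := hperp z hz
    have hzgz : B z (g z) = 0 := by
      have h := hg z z
      rw [hB.symm (g z) z] at h
      have key : ∀ s : ZMod 3, s = -s → s = 0 := by decide
      exact key _ h
    refine ⟨Fin.snoc (α := fun _ => V) (Fin.snoc f z) (g z), fun i => ?_, fun i j => ?_, fun x hx i => ?_⟩
    · refine Fin.lastCases ?_ (fun a => ?_) i
      · rw [Fin.snoc_last, IsUnitVec, hiso]; exact hzz
      · rw [Fin.snoc_castSucc]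
        refine Fin.lastCases ?_ (fun b => ?_) a
        · rw [Fin.snoc_last]; exact hzz
        · rw [Fin.snoc_castSucc]; exact hf b
    · refine Fin.lastCases ?_ (fun a => ?_) i <;> refine Fin.lastCases ?_ (fun b => ?_) j <;>
        simp only [Fin.snoc_last, Fin.snoc_castSucc]
      · exact fun h => absurd rfl h
      · intro
        rw [hB.symm]
        refine Fin.lastCases ?_ (fun c => ?_) b
        · rw [Fin.snoc_last]; exact hzgz
        · rw [Fin.snoc_castSucc]; exact hgz c
      · intro
        refine Fin.lastCases ?_ (fun c => ?_) a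
        · rw [Fin.snoc_last]; exact hzgz
        · rw [Fin.snoc_castSucc]; exact hgz c
      · refine Fin.lastCases ?_ (fun a => ?_) a <;> refine Fin.lastCases ?_ (fun b => ?_) b <;>
          simp only [Fin.snoc_last, Fin.snoc_castSucc]
        · exact fun h => absurd rfl h
        · intro
          rw [hB.symm]; exact hz b
        · exact fun _ => hz a
        · exact fun h => ho a b fun e => h (by rw [e])
    · have hzx : B z x = 0 := by simpa using hx (Fin.last (2 * k)).castSucc
      have hgzx : B (g z) x = 0 := by simpa using hx (Fin.last (2 * k + 1))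
      have hfx : ∀ b, B (f b) x = 0 := fun b => by simpa using hx b.castSucc.castSucc
      refine Fin.lastCases ?_ (fun a => ?_) i
      · rw [Fin.snoc_last, hiso]; exact hzx
      · rw [Fin.snoc_castSucc]
        refine Fin.lastCases ?_ (fun b => ?_) a
        · rw [Fin.snoc_last]
          rw [hg] at hgzx
          exact neg_eq_zero.1 hgzx
        · rw [Fin.snoc_castSucc]; exact hperp x hfx b

end Cfsg.Lib.Fischer.Disconnected
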