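import Cfsg.Agent.Lib.Fischer.Disconnected.Defs
import Cfsg.Agent.Lib.Fischer.Disconnected.Complex
import Cfsg.Agent.Lib.Fischer.Disconnected.Skew
import Cfsg.Agent.Lib.Fischer.Thm.Refl.Group

/-!
# Displacing involutions in reflection groups over three elements

They lift to skew isometries, commuting ones to anticommuting complex structures: the dimension is eight.
-/

set_option autoImplicit false
set_option maxHeartbeats 800000
set_option linter.unusedSectionVars false

namespace Cfsg.Lib.Fischer.Disconnected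

open Cfsg Cfsg.Lib.Fischer Cfsg.Lib.Fischer.Thm.Refl
open scoped Matrix

universe u

variable {H : Type u} [Group H] [Finite H] {B : Set H} {n : ℕ}
  {Q : QuadraticForm (ZMod 3) (Fin n → ZMod 3)} {c : ZMod 3}
  (hQ : (QuadraticMap.polarBilin Q).Nondegenerate) (hc : c ≠ 0)
  (e : H ≃* ↥(reflectionSubgroup (⇑Q) c) ⧸ Subgroup.center ↥(reflectionSubgroup (⇑Q) c))
  (he : e '' B = (QuotientGroup.mk : ↥(reflectionSubgroup (⇑Q) c) → _) ''
    {g : ↥(reflectionSubgroup (⇑Q) c) |
      (g : ↥(isometryGroup (ZMod 3) (⇑Q))) ∈ reflectionsOfNorm (⇑Q) c})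

/-- The linear map of a member of the group. -/
def actLin (g : ↥(reflectionSubgroup (⇑Q) c)) : Module.End (ZMod 3) (Fin n → ZMod 3) :=
  ((g : ↥(isometryGroup (ZMod 3) (⇑Q))) : GL (Fin n) (ZMod 3)).val.mulVecLin

theorem actLin_apply (g : ↥(reflectionSubgroup (⇑Q) c)) (x : Fin n → ZMod 3) : actLin g x = act g x := rfl

include hQ hc he

/-- A member for every unit. -/
theorem exists_unit_member {a : Fin n → ZMod 3} (ha : IsUnitVec (unitForm Q c) a) :
    ∃ r, (∀ z, act r z = refl (unitForm Q c) a z) ∧ e.symm (QuotientGroup.mk r) ∈ B := by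
  obtain ⟨r, hr, hact⟩ := exists_member hQ hc ha
  refine ⟨r, hact, ?_⟩
  obtain ⟨b, hb, hbe⟩ := he.ge ⟨r, hr, rfl⟩
  rwa [← hbe, e.symm_apply_apply]

/-- A lift of a displacing involution is skew and squares to `-1`. -/
theorem lift_skew (hn : 5 ≤ n) {t : H} (ht : Displacing B t) {g : ↥(reflectionSubgroup (⇑Q) c)}
    (hg : QuotientGroup.mk g = e t) :
    (∀ u v, unitForm Q c (act g u) v = -unitForm Q c u (act g v)) ∧ ∀ x, act g (act g x) = -x := by
  have hB := unitForm_form hQ hc
  have hV : 4 ≤ Module.finrank (ZMod 3) (Fin n → ZMod 3) := by rw [Module.finrank_fin_fun]; omega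
  have hunit : ∀ a, IsUnitVec (unitForm Q c) a → unitForm Q c a (act g a) = 0 := by
    intro a ha
    obtain ⟨r, hr, hrB⟩ := exists_unit_member hQ hc e he ha
    obtain ⟨r', hr'⟩ : ∃ r', r' = g * r * g⁻¹ := ⟨_, rfl⟩
    have hga := act_unit hQ hc g ha
    have hr'act : ∀ z, act r' z = refl (unitForm Q c) (act g a) z := fun z => by
      conv_rhs => rw [show z = act g (act g⁻¹ z) by rw [← act_mul, mul_inv_cancel, act_one]]
      rw [hr', mul_assoc, act_mul, act_mul]
      exact act_conj hQ hc hr _
    have hr'e : (QuotientGroup.mk r' : ↥(reflectionSubgroup (⇑Q) c) ⧸ _) =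
        e (t * e.symm (QuotientGroup.mk r) * t⁻¹) := by
      rw [hr', map_mul, map_mul, map_inv, e.apply_symm_apply, ← hg]
      rfl
    obtain ⟨-, hne, hcm⟩ := ht.2 _ hrB
    by_contra h0
    have hnsim : ¬ Sim a (act g a) := fun hs => hne (e.injective (by
      rw [← hr'e, e.apply_symm_apply]
      exact congrArg _ (act_ext fun z => by rw [hr, hr'act, refl_sim hs])))
    have hq : (QuotientGroup.mk (r * r' * r⁻¹) :
        ↥(reflectionSubgroup (⇑Q) c) ⧸ Subgroup.center ↥(reflectionSubgroup (⇑Q) c)) = QuotientGroup.mk r' := by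
      have e1 : e (e.symm (QuotientGroup.mk r)) * e (t * e.symm (QuotientGroup.mk r) * t⁻¹) =
          e (t * e.symm (QuotientGroup.mk r) * t⁻¹) * e (e.symm (QuotientGroup.mk r)) := by
        rw [← map_mul, ← map_mul, hcm.eq]
      rw [← hr'e, e.apply_symm_apply] at e1
      rw [QuotientGroup.mk_mul, QuotientGroup.mk_mul, QuotientGroup.mk_inv, mul_inv_eq_iff_eq_mul]
      exact e1
    have hconj : ∀ z, act (r * r' * r⁻¹) z = refl (unitForm Q c) (act r (act g a)) z := fun z => by
      conv_rhs => rw [show z = act r (act r⁻¹ z) by rw [← act_mul, mul_inv_cancel, act_one]]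
      rw [mul_assoc, act_mul, act_mul]
      exact act_conj hQ hc hr'act _
    have hsim := sim_of_mk_eq hQ hc hn (act_unit hQ hc r hga) hga hconj hr'act hq
    rw [hr] at hsim
    exact (orth_of_refl_sim hB ha hsim).elim h0 hnsim
  have hskew := skew_of_units hB hV (actLin g) hunit
  exact ⟨hskew, sq_of_skew hB (actLin g) hskew (act_form hQ hc g)⟩

/-- A frame gives anticommuting complex structures. -/
theorem exists_structures (hP : Paired B) (hn : 5 ≤ n) {k : ℕ} (hk : k + 2 ≤ n) :
    ∃ J : Fin k → Module.End (ZMod 3) (Fin n → ZMod 3), (∀ i x, J i (J i x) = -x) ∧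
      ∀ i l, i ≠ l → ∀ x, J i (J l x) = -J l (J i x) := by
  have hB := unitForm_form hQ hc
  obtain ⟨f, hf, ho⟩ := exists_frame hB (k + 1) (by rw [Module.finrank_fin_fun]; omega)
  choose r hr hrB using fun i => exists_unit_member hQ hc e he (hf i)
  obtain ⟨t, ht, htt⟩ := hP.clique k (fun i => e.symm (QuotientGroup.mk (r i)))
    (fun i j h => by
      by_contra hij
      exact not_sim_of_orth hB (hf i) (ho i j hij)
        (sim_of_mk_eq hQ hc hn (hf i) (hf j) (hr i) (hr j) (e.symm.injective h)))
    hrB fun i j => by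
      refine Commute.map ?_ e.symm.toMonoidHom
      rcases eq_or_ne i j with rfl | hij
      · exact Commute.refl _
      refine congrArg (QuotientGroup.mk' (Subgroup.center ↥(reflectionSubgroup (⇑Q) c)))
        (show r i * r j = r j * r i from act_ext fun z => ?_)
      have hij' : unitForm Q c (f j) (f i) = 0 := by rw [hB.symm]; exact ho i j hij
      simp only [act_mul, hr, refl_apply, map_sub, map_smul, ho i j hij, hij', smul_eq_mul, mul_zero, zero_smul, smul_zero, sub_zero]
      abel
  choose g hg using fun i => QuotientGroup.mk_surjective (e (t i))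
  refine ⟨fun i => actLin (g i), fun i x => (lift_skew hQ hc e he hn (ht i) (hg i)).2 x, fun i l hil x => ?_⟩
  have h2 := (lift_skew hQ hc e he hn (htt i l hil) (g := g i * g l)
    (by rw [QuotientGroup.mk_mul, hg, hg, map_mul])).2
  have hi := (lift_skew hQ hc e he hn (ht i) (hg i)).2
  have hl := (lift_skew hQ hc e he hn (ht l) (hg l)).2
  have hni : ∀ (k : ↥(reflectionSubgroup (⇑Q) c)) y, act k (-y) = -act k y := fun k y => Matrix.mulVec_neg _ _
  show act (g i) (act (g l) x) = -act (g l) (act (g i) x)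
  -- apply `(gᵢ g_l)² = -1` at `g_l x`
  have h3 := h2 (act (g l) x)
  simp only [act_mul, hl, hni, neg_inj] at h3
  have h4 := congrArg (act (g i)) h3
  rw [hi] at h4
  exact h4.symm

/-- The dimension is eight. -/
theorem dim_eight (hF : IsFischer B) (hP : Paired B) (hn : 5 ≤ n) : n = 8 := by
  have hdim : ∀ j, 4 * j + 2 ≤ n → 4 ^ j ∣ n := fun j hj => by
    obtain ⟨J, h1, h2⟩ := exists_structures hQ hc e he hP hn hj
    simpa [Module.finrank_fin_fun] using pow_four_dvd j (Fin n → ZMod 3) _ J le_rfl h1 h2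
  have heven : Even n := by
    obtain ⟨t, ht⟩ := exists_displacing hF hP
    obtain ⟨g, hg⟩ := QuotientGroup.mk_surjective (e t)
    have h := (lift_skew hQ hc e he hn ht hg).2
    set M := ((g : ↥(isometryGroup (ZMod 3) (⇑Q))) : GL (Fin n) (ZMod 3)).val with hM
    have hMM : M * M = -1 := Cfsg.Lib.Linear.Orth.mat_ext fun x => by
      rw [← Matrix.mulVec_mulVec, Matrix.neg_mulVec, Matrix.one_mulVec]; exact h x
    have hdet := congrArg Matrix.det hMM
    rw [Matrix.det_mul, Matrix.det_neg, Matrix.det_one, mul_one, Fintype.card_fin] at hdet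
    by_contra hodd
    rw [(Nat.not_even_iff_odd.1 hodd).neg_one_pow] at hdet
    revert hdet
    generalize M.det = s
    revert s
    decide
  obtain ⟨q, hq⟩ := heven
  by_contra h8
  obtain ⟨j, hj⟩ : ∃ j, j = (n - 2) / 4 := ⟨_, rfl⟩
  have hle := Nat.le_of_dvd (by omega) (hdim j (by omega))
  rcases Nat.lt_or_ge j 2 with h | h
  · have h4 := hdim 1 (by omega)
    interval_cases j <;> omega
  · have hgrow : ∀ i, 2 ≤ i → 4 * i + 5 < 4 ^ i := fun i hi => by
      induction i, hi using Nat.le_induction with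
      | base => norm_num
      | succ i hi ih => rw [pow_succ]; omega
    have := hgrow j h
    omega

end Cfsg.Lib.Fischer.Disconnected
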