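import Cfsg.Agent.Lib.Fischer.Disconnected.Defs
import Cfsg.Agent.Lib.Fischer.Primitive
import Cfsg.Agent.Lib.Fischer.Relations.Centralizer.Order

/-!
# A class with disconnected commuting graph over its component

The members of one coset of the component form a Fischer class, paired with the other cosets.
-/

set_option autoImplicit false
set_option maxHeartbeats 800000
set_option linter.unusedSectionVars false
set_option linter.style.haveILetI false

namespace Cfsg.Lib.Fischer.Disconnected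

open Cfsg Cfsg.Lib.Fischer
open scoped commutatorElement

universe u

variable {G : Type u} [Group G] [Finite G] {D : Set G}

/-- The component, with members outside two of its cosets. -/
structure Layer (D : Set G) (L : Subgroup G) : Prop where
  comp : IsComponent L
  cent : Subgroup.centralizer (L : Set G) = ⊥
  width : ∀ a ∈ D, ∀ b ∈ D, a * b * a⁻¹ * b⁻¹ ∈ L → a * b ∈ L
  two : ∃ a ∈ D, ∃ b ∈ D, a * b ∉ L

/-- The component of a centreless class with trivial cores and disconnected graph. -/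
theorem exists_layer (hT : Trans D) (hZ : Subgroup.center G = ⊥) (h2 : Cfsg.pCore 2 G = ⊥)
    (h3 : Cfsg.pCore 3 G = ⊥) (hdisc : ¬ (Cfsg.commutingGraph D).Connected) :
    ∃ L : Subgroup G, L.Normal ∧ Cfsg.generalizedFittingSubgroup G = L ∧ Layer D L := by
  obtain ⟨d, hd⟩ := hT.ne
  have hne : ∃ a ∈ D, ∃ b ∈ D, a ≠ b := by
    by_contra h
    push Not at h
    have hle : Subgroup.closure D ≤ Subgroup.centralizer ({d} : Set G) := (Subgroup.closure_le _).2 fun y hy =>
      Subgroup.mem_centralizer_singleton_iff.2 (by rw [h y hy d hd])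
    rw [hT.gen] at hle
    have hdz : d ∈ Subgroup.center G := Subgroup.mem_center_iff.2 fun g =>
      Subgroup.mem_centralizer_singleton_iff.1 (hle (Subgroup.mem_top g))
    rw [hZ, Subgroup.mem_bot] at hdz
    exact ne_one hT hd hdz
  have h2' : Cfsg.pCore 2 G ≤ Subgroup.center G := h2.le.trans bot_le
  have h3' : Cfsg.pCore 3 G ≤ Subgroup.center G := h3.le.trans bot_le
  obtain ⟨L, hLn, hL, -, hF⟩ := exists_quasisimple hT hne h2' h3'
  haveI := hLn
  have hcent : Subgroup.centralizer (L : Set G) = ⊥ :=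
    le_bot_iff.1 (hZ ▸ centralizer_le_center hT h2' h3' hF)
  refine ⟨L, hLn, by rw [hF, hZ, sup_bot_eq], hL, hcent, fun a ha b hb h => quotient_width_one hT hL ha hb h, ?_⟩
  by_contra hall
  push Not at hall
  have hidx := index_le_two hT L hall
  have hsol : ∀ N : Subgroup G, N.Normal → Group.IsSolvable ↥N → N = ⊥ := fun N hN hs => by
    haveI := hN
    have h := Lib.Core.component_commute_solvable hL (H := N) hs Subgroup.le_normalizer_of_normal
    rw [Subgroup.commutator_comm, Subgroup.commutator_eq_bot_iff_le_centralizer, hcent] at h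
    exact le_bot_iff.1 h
  exact hdisc (connected_of_primitive hT (primitive_of_index hT hne h2' h3' hL hF hidx) (exists_commute hT hsol))

variable {L : Subgroup G} [L.Normal]

/-- The members in the coset of `d`. -/
def coset (D : Set G) (L : Subgroup G) (d : G) : Set G := {y | y ∈ D ∧ (y : G ⧸ L) = (d : G ⧸ L)}

/-- The component with the member `d`. -/
def grp (L : Subgroup G) [L.Normal] (d : G) : Subgroup G :=
  (Subgroup.zpowers (d : G ⧸ L)).comap (QuotientGroup.mk' L)

/-- The class of `d` in that group. -/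
def cls' (D : Set G) (L : Subgroup G) [L.Normal] (d : G) : Set ↥(grp L d) :=
  {y | (y : G) ∈ D ∧ ((y : G) : G ⧸ L) = (d : G ⧸ L)}

variable (hT : Trans D)
include hT

theorem mk_eq_iff {a b : G} (ha : a ∈ D) : (a : G ⧸ L) = (b : G ⧸ L) ↔ a * b ∈ L := by
  rw [QuotientGroup.eq, inv_eq hT ha]

theorem mk_sq {a : G} (ha : a ∈ D) : (a : G ⧸ L) * (a : G ⧸ L) = 1 := by
  rw [← QuotientGroup.mk_mul, mul_self hT ha, QuotientGroup.mk_one]

theorem mem_grp {d : G} (hd : d ∈ D) {x : G} :
    x ∈ grp L d ↔ (x : G ⧸ L) = 1 ∨ (x : G ⧸ L) = (d : G ⧸ L) := by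
  show (x : G ⧸ L) ∈ Subgroup.zpowers (d : G ⧸ L) ↔ _
  refine ⟨fun h => ?_, ?_⟩
  · obtain ⟨k, hk⟩ := Subgroup.mem_zpowers_iff.1 h
    rcases Int.even_or_odd k with ⟨q, rfl⟩ | ⟨q, rfl⟩
    · left; rw [← hk, ← two_mul, zpow_mul, zpow_two, mk_sq hT hd, one_zpow]
    · right; rw [← hk, zpow_add, zpow_mul, zpow_two, mk_sq hT hd, one_zpow, one_mul, zpow_one]
  · rintro (h | h) <;> rw [h]
    exacts [one_mem _, Subgroup.mem_zpowers _]

theorem le_grp {d : G} (hd : d ∈ D) : L ≤ grp L d := fun x hx =>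
  (mem_grp hT hd).2 (Or.inl ((QuotientGroup.eq_one_iff x).2 hx))

variable (hL : Layer D L)
include hL

theorem mk_of_commute {a b : G} (ha : a ∈ D) (hb : b ∈ D) (h : Commute a b) : (a : G ⧸ L) = (b : G ⧸ L) :=
  (mk_eq_iff hT ha).2 (hL.width a ha b hb (by
    rw [h.eq, mul_assoc b, mul_inv_cancel, mul_one, mul_inv_cancel]; exact one_mem L))

theorem notMem {d : G} (hd : d ∈ D) : d ∉ L := fun hdL => by
  obtain ⟨a, ha, b, hb, hab⟩ := hL.two
  have hall : ∀ y ∈ D, y ∈ L := fun y hy => by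
    obtain ⟨g, rfl⟩ := hT.trans d hd y hy
    exact Subgroup.Normal.conj_mem inferInstance d hdL g
  exact hab (mul_mem (hall a ha) (hall b hb))

theorem exists_other {d : G} (hd : d ∈ D) : ∃ e ∈ D, (e : G ⧸ L) ≠ (d : G ⧸ L) := by
  by_contra h
  push Not at h
  obtain ⟨a, ha, b, hb, hab⟩ := hL.two
  exact hab ((mk_eq_iff hT ha).1 ((h a ha).trans (h b hb).symm))

theorem mk_conj {l d : G} (hl : l ∈ L) : ((l * d * l⁻¹ : G) : G ⧸ L) = (d : G ⧸ L) := by
  rw [QuotientGroup.mk_mul, QuotientGroup.mk_mul, QuotientGroup.mk_inv, (QuotientGroup.eq_one_iff l).2 hl,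
    one_mul, inv_one, mul_one]

/-- The conjugates of a member under the component span it. -/
theorem le_closure_orbit {d : G} (hd : d ∈ D) : L ≤ Subgroup.closure {z | ∃ l ∈ L, l * d * l⁻¹ = z} := by
  obtain ⟨M, hM⟩ : ∃ M, M = Subgroup.closure {z | ∃ l ∈ L, l * d * l⁻¹ = z} := ⟨_, rfl⟩
  rw [← hM]
  have hmemM : ∀ l ∈ L, l * d * l⁻¹ ∈ M := fun l hl => hM ▸ Subgroup.subset_closure ⟨l, hl, rfl⟩
  have hn : (M.subgroupOf L).Normal := ⟨fun x hx l => by
    show (l : G) * x * (l : G)⁻¹ ∈ M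
    have h : M.map (MulAut.conj (l : G)).toMonoidHom ≤ M := by
      rw [hM, MonoidHom.map_closure, Subgroup.closure_le]
      rintro _ ⟨_, ⟨k, hk, rfl⟩, rfl⟩
      exact Subgroup.subset_closure ⟨l * k, mul_mem l.2 hk, by simp [mul_assoc]⟩
    exact h ⟨x, hx, rfl⟩⟩
  rcases Lib.Core.quasisimple_normal hL.comp.2 (N := M.subgroupOf L) with h | h
  · exfalso
    refine notMem hT hL hd ?_
    have hdc : d ∈ Subgroup.centralizer (L : Set G) := Subgroup.mem_centralizer_iff.2 fun l hl => by
      have hmem : d * (l * d * l⁻¹) ∈ L := (mk_eq_iff hT hd).1 (mk_conj hT hL hl).symm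
      have hz : (⟨_, hmem⟩ : ↥L) ∈ Subgroup.center ↥L := h (show d * (l * d * l⁻¹) ∈ M from
        mul_mem (by simpa using hmemM 1 (one_mem L)) (hmemM l hl))
      have h1 : d * (l * d * l⁻¹) ∈ Subgroup.centralizer (L : Set G) := Subgroup.mem_centralizer_iff.2 fun k hk =>
        congrArg Subtype.val (Subgroup.mem_center_iff.1 hz ⟨k, hk⟩)
      rw [hL.cent, Subgroup.mem_bot, ← eq_inv_iff_mul_eq_one, _root_.mul_inv_rev, _root_.mul_inv_rev, inv_inv,
        inv_eq hT hd, ← mul_assoc, eq_mul_inv_iff_mul_eq] at h1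
      exact h1.symm
    rw [hL.cent, Subgroup.mem_bot] at hdc
    rw [hdc]; exact one_mem L
  · exact Subgroup.subgroupOf_eq_top.1 h

/-- The component is transitive on the members of each coset. -/
theorem coset_orbit {d : G} (hd : d ∈ D) {y : G} (hy : y ∈ coset D L d) : ∃ l ∈ L, l * d * l⁻¹ = y := by
  by_contra hno
  push Not at hno
  have hcomm : ∀ l ∈ L, Commute y (l * d * l⁻¹) := by
    intro l hl
    by_contra hn
    have hzD := hT.conj l d hd
    have hzy : l * d * l⁻¹ * y ∈ L := (mk_eq_iff hT hzD).1 ((mk_conj hT hL hl).trans hy.2.symm)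
    refine hno (l * d * l⁻¹ * y * l) (mul_mem hzy hl) ?_
    have hb : cj (l * d * l⁻¹) y = cj y (l * d * l⁻¹) := braid hT hzD hy.1 fun h => hn h.symm
    have key : ∀ z : G, z ∈ D → cj z y = cj y z → z * y * z * (z * y)⁻¹ = y := fun z hz hb => by
      calc z * y * z * (z * y)⁻¹ = cj z (cj y z) := by
            simp only [cj_def, mul_inv_rev, inv_eq hT hy.1, inv_eq hT hz, mul_assoc]
        _ = y := by rw [← hb, cj_cj hT hz]
    calc l * d * l⁻¹ * y * l * d * (l * d * l⁻¹ * y * l)⁻¹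
        = (l * d * l⁻¹ * y) * (l * d * l⁻¹) * (l * d * l⁻¹ * y)⁻¹ := by group
      _ = y := key _ hzD hb
  have hyc : y ∈ Subgroup.centralizer (L : Set G) := by
    have hle : Subgroup.closure {z | ∃ l ∈ L, l * d * l⁻¹ = z} ≤ Subgroup.centralizer ({y} : Set G) :=
      (Subgroup.closure_le _).2 fun z ⟨l, hl, hz⟩ => Subgroup.mem_centralizer_singleton_iff.2 (hz ▸ (hcomm l hl).eq.symm)
    exact Subgroup.mem_centralizer_iff.2 fun l hl =>
      Subgroup.mem_centralizer_singleton_iff.1 (hle (le_closure_orbit hT hL hd hl))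
  rw [hL.cent, Subgroup.mem_bot] at hyc
  exact ne_one hT hy.1 hyc

/-- The derived group of the group of a coset is the component. -/
theorem derived_map {d : G} (hd : d ∈ D) : (commutator ↥(grp L d)).map (grp L d).subtype = L := by
  refine le_antisymm ?_ ?_
  · rw [Subgroup.map_le_iff_le_comap, commutator_def, Subgroup.commutator_le]
    intro x _ y _
    rw [Subgroup.mem_comap, map_commutatorElement, ← QuotientGroup.eq_one_iff]
    change (QuotientGroup.mk' L) ⁅(x : G), (y : G)⁆ = 1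
    rw [map_commutatorElement, commutatorElement_eq_one_iff_mul_comm]
    rcases (mem_grp hT hd).1 x.2 with h | h <;> rcases (mem_grp hT hd).1 y.2 with h' | h' <;>
      simp [h, h']
  · have h := Subgroup.map_commutator (L.subgroupOf (grp L d)) (L.subgroupOf (grp L d)) (grp L d).subtype
    rw [Subgroup.map_subgroupOf_eq_of_le (le_grp hT hd), Lib.Core.IsComponent.commutator_eq hL.comp] at h
    exact h.symm.le.trans (Subgroup.map_mono (Subgroup.commutator_mono le_top le_top))

/-- One coset gives a pair of Fischer's kind. -/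
theorem isFischer_cls {d : G} (hd : d ∈ D) : IsFischer (cls' D L d) := by
  have hdg : d ∈ grp L d := (mem_grp hT hd).2 (Or.inr rfl)
  have hmap := derived_map hT hL hd
  refine ⟨⟨⟨fun y hy => ?_, fun y hy z hz => ?_⟩, fun g y hy => ⟨hT.conj g y hy.1, ?_⟩, fun a ha b hb => ?_, ?_,
    ⟨⟨d, hdg⟩, hd, rfl⟩⟩, ?_, ?_⟩
  · rw [← Subgroup.orderOf_coe]; exact hT.set.1 y hy.1
  · exact (hT.set.2 y hy.1 z hz.1).imp (fun h => Subtype.ext (by simpa using h)) fun h => Subtype.ext (by simpa using h)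
  · simp only [Subgroup.coe_mul, Subgroup.coe_inv, QuotientGroup.mk_mul, QuotientGroup.mk_inv, hy.2]
    rcases (mem_grp hT hd).1 g.2 with h | h <;> simp [h]
  · obtain ⟨l, hl, hla⟩ := coset_orbit hT hL hd ha
    obtain ⟨k, hk, hkb⟩ := coset_orbit hT hL hd hb
    refine ⟨⟨k * l⁻¹, le_grp hT hd (mul_mem hk (inv_mem hl))⟩, Subtype.ext ?_⟩
    simp only [Subgroup.coe_mul, Subgroup.coe_inv, ← hla, ← hkb]
    group
  · rw [eq_top_iff]
    intro g _
    have hdS : (⟨d, hdg⟩ : ↥(grp L d)) ∈ Subgroup.closure (cls' D L d) := Subgroup.subset_closure ⟨hd, rfl⟩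
    have hLS : ∀ x : ↥(grp L d), (x : G) ∈ L → x ∈ Subgroup.closure (cls' D L d) := by
      intro x hx
      have hle : Subgroup.closure {z | ∃ l ∈ L, l * d * l⁻¹ = z} ≤
          (Subgroup.closure (cls' D L d)).map (grp L d).subtype := by
        rw [Subgroup.closure_le]
        rintro _ ⟨l, hl, rfl⟩
        exact ⟨⟨_, (mem_grp hT hd).2 (Or.inr (mk_conj hT hL hl))⟩,
          Subgroup.subset_closure ⟨hT.conj l d hd, mk_conj hT hL hl⟩, rfl⟩
      obtain ⟨w, hw, hwx⟩ := hle (le_closure_orbit hT hL hd hx)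
      rwa [show w = x from Subtype.ext hwx] at hw
    rcases (mem_grp hT hd).1 g.2 with h | h
    · exact hLS g ((QuotientGroup.eq_one_iff _).1 h)
    · have h1 := hLS (g * ⟨d, hdg⟩) ((QuotientGroup.eq_one_iff _).1 (by
        rw [Subgroup.coe_mul, QuotientGroup.mk_mul, h, mk_sq hT hd]))
      have := mul_mem h1 (inv_mem hdS)
      rwa [mul_inv_cancel_right] at this
  · intro N hN hs
    haveI := hN
    haveI := hs
    let M := N.map (grp L d).subtype
    haveI : Group.IsSolvable ↥M :=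
      Group.isSolvable_of_surjective (f := (N.equivMapOfInjective (grp L d).subtype (grp L d).subtype_injective).toMonoidHom)
        (N.equivMapOfInjective (grp L d).subtype (grp L d).subtype_injective).surjective
    have hnorm : L ≤ Subgroup.normalizer (M : Set G) := fun l hl => by
      refine Subgroup.mem_normalizer_iff.2 fun x => ⟨?_, ?_⟩
      · rintro ⟨w, hw, rfl⟩
        exact ⟨_, hN.conj_mem w hw ⟨l, le_grp hT hd hl⟩, rfl⟩
      · rintro ⟨w, hw, hwe⟩
        refine ⟨_, hN.conj_mem w hw ⟨l, le_grp hT hd hl⟩⁻¹, ?_⟩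
        simp only [Subgroup.coe_subtype, Subgroup.coe_mul, Subgroup.coe_inv] at hwe ⊢
        rw [hwe]; group
    have h := Lib.Core.component_commute_solvable hL.comp (H := M) inferInstance hnorm
    rw [Subgroup.commutator_comm, Subgroup.commutator_eq_bot_iff_le_centralizer, hL.cent, le_bot_iff] at h
    exact (Subgroup.map_eq_bot_iff_of_injective _ (grp L d).subtype_injective).1 h
  · refine Subgroup.map_injective (grp L d).subtype_injective ?_
    rw [Subgroup.map_commutator, hmap, Lib.Core.IsComponent.commutator_eq hL.comp]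

/-- The derived group of a coset's group is the component. -/
theorem derived_iso {d : G} (hd : d ∈ D) : Nonempty (↥(commutator ↥(grp L d)) ≃* ↥L) := by
  have hmap := derived_map hT hL hd
  exact ⟨((commutator ↥(grp L d)).equivMapOfInjective _ (grp L d).subtype_injective).trans
    (MulEquiv.subgroupCongr hmap)⟩

/-- A commuting pair of another coset moves a member to one commuting with it. -/
theorem pair_moves {z a b : G} (hz : z ∈ D) (ha : a ∈ D) (hb : b ∈ D) (hne : a ≠ b) (hc : Commute a b)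
    (hza : (z : G ⧸ L) ≠ (a : G ⧸ L)) :
    cj a (cj b z) ∈ coset D L z ∧ cj a (cj b z) ≠ z ∧ Commute z (cj a (cj b z)) := by
  have hab := mk_of_commute hT hL ha hb hc
  have hna : ¬ Commute z a := fun h => hza (mk_of_commute hT hL hz ha h)
  have hnb : ¬ Commute z b := fun h => hza ((mk_of_commute hT hL hz hb h).trans hab.symm)
  have hzb := braid hT hz hb hnb
  have hzac := braid hT hz ha hna
  refine ⟨⟨cj_mem hT ha (cj_mem hT hb hz), ?_⟩, fun h => hne ?_, ?_⟩
  · simp only [cj_def, QuotientGroup.mk_mul, ← hab, mul_assoc, mk_sq hT ha, mul_one]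
    rw [← mul_assoc, mk_sq hT ha, one_mul]
  · have h1 : cj b z = cj a z := by rw [← cj_cj hT ha (cj b z), h]
    rw [← hzb, ← hzac] at h1
    exact ((cj_inj hT hz).1 h1).symm
  · refine Commute.symm ((commute_cj_left hT ha).2 ?_)
    rw [← hzb, ← hzac]
    exact (commute_cj hT hz).2 hc.symm

/-- The component centralizing one member is transitive on every other coset. -/
theorem other_orbit {d e : G} (hd : d ∈ D) (he : e ∈ D) (hde : (d : G ⧸ L) ≠ (e : G ⧸ L)) {e' : G}
    (he' : e' ∈ coset D L e) : ∃ l ∈ L ⊓ Subgroup.centralizer ({d} : Set G), l * e * l⁻¹ = e' := by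
  let p : ↥(grp L e) → Prop := fun x => ∃ l ∈ L ⊓ Subgroup.centralizer ({d} : Set G), l * e * l⁻¹ = (x : G)
  refine commuting_connected (isFischer_cls hT hL he) (p := p) (fun x hx x' hx' hc hp => ?_)
    (a := ⟨e, (mem_grp hT he).2 (Or.inr rfl)⟩) (b := ⟨e', (mem_grp hT he).2 (Or.inr he'.2)⟩) ⟨he, rfl⟩ he'
    ⟨1, one_mem _, by simp⟩
  by_cases hxx : x = x'
  · exact hxx ▸ hp
  obtain ⟨l, hl, hle⟩ := hp
  have hc' : Commute (x : G) (x' : G) := congrArg Subtype.val hc.eq
  have hxx' : (x : G) ≠ x' := fun h => hxx (Subtype.ext h)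
  have hxd : (d : G ⧸ L) ≠ ((x : G) : G ⧸ L) := by rw [hx.2]; exact hde
  -- the member paired with the step
  obtain ⟨⟨hyD, hyc⟩, hyd, hdy⟩ := pair_moves hT hL hd hx.1 hx'.1 hxx' hc' hxd
  obtain ⟨y, hy⟩ : ∃ y, y = cj (x : G) (cj (x' : G) d) := ⟨_, rfl⟩
  rw [← hy] at hyD hyc hyd hdy
  have hnxd : ¬ Commute d (x' : G) := fun h => hde ((mk_of_commute hT hL hd hx'.1 h).trans hx'.2)
  have hnxy : ¬ Commute (y : G) (x : G) := fun h => hxd (hyc.symm.trans (mk_of_commute hT hL hyD hx.1 h))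
  have hmove : cj d (cj y x) = x' := by
    rw [braid hT hyD hx.1 hnxy, hy, cj_cj hT hx.1, ← braid hT hd hx'.1 hnxd, cj_cj hT hd]
  refine ⟨d * y * l, Subgroup.mem_inf.2 ⟨mul_mem ((mk_eq_iff hT hd).1 hyc.symm) (Subgroup.mem_inf.1 hl).1, ?_⟩, ?_⟩
  · exact mul_mem (Subgroup.mem_centralizer_singleton_iff.2
      (((Commute.refl d).mul_left hdy.symm).eq)) (Subgroup.mem_inf.1 hl).2
  · rw [← hmove, ← hle, cj_conj hT hd, cj_conj hT hyD]; group

/-- The pairing data of one coset. -/
theorem paired {d : G} (hd : d ∈ D) : Paired (cls' D L d) := by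
  obtain ⟨e, he, hed⟩ := exists_other hT hL hd
  refine ⟨fun k f hinj hf hc => ?_, ?_⟩
  · obtain ⟨g, hg⟩ := hT.trans d hd e he
    obtain ⟨E, hE⟩ : ∃ E : Fin (k + 1) → G, ∀ i, E i = g * (f i : G) * g⁻¹ := ⟨_, fun _ => rfl⟩
    have hED : ∀ i, E i ∈ D := fun i => hE i ▸ hT.conj g _ (hf i).1
    have hEc : ∀ i, (E i : G ⧸ L) = (e : G ⧸ L) := fun i => by
      rw [hE, ← hg]; simp only [QuotientGroup.mk_mul, (hf i).2]
    have hEcomm : ∀ i j, Commute (E i) (E j) := fun i j => by
      rw [hE, hE, Commute.conj_iff]; exact congrArg Subtype.val (hc i j).eq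
    have hEne : ∀ i j, i ≠ j → E i ≠ E j := fun i j hij h => hij (hinj (Subtype.ext (by simpa [hE] using h)))
    have hdisp : ∀ i j, i ≠ j → ∀ (hm : E i * E j ∈ grp L d), Displacing (cls' D L d) ⟨E i * E j, hm⟩ := by
      intro i j hij hm
      refine ⟨Subtype.ext ?_, fun z hz => ?_⟩
      · show E i * E j * (E i * E j) = 1
        rw [mul_assoc, ← mul_assoc (E j), ← (hEcomm i j).eq, mul_assoc (E i), mul_self hT (hED j), mul_one,
          mul_self hT (hED i)]
      · obtain ⟨h1, h2, h3⟩ := pair_moves hT hL hz.1 (hED i) (hED j) (hEne i j hij) (hEcomm i j)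
          (by rw [hz.2, hEc]; exact Ne.symm hed)
        have hval : cj (E i) (cj (E j) (z : G)) = E i * E j * (z : G) * (E i * E j)⁻¹ := by
          rw [cj_conj hT (hED i), cj_conj hT (hED j)]; group
        rw [hval] at h1 h2 h3
        exact ⟨⟨h1.1, h1.2.trans hz.2⟩, fun h => h2 (congrArg Subtype.val h), Subtype.ext h3.eq⟩
    have hmem : ∀ i j, E i * E j ∈ grp L d := fun i j =>
      le_grp hT hd ((mk_eq_iff hT (hED i)).1 ((hEc i).trans (hEc j).symm))
    refine ⟨fun i => ⟨E 0 * E i.succ, hmem _ _⟩, fun i => hdisp _ _ (Fin.succ_ne_zero i).symm _, fun i j hij => ?_⟩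
    have he2 : (⟨E 0 * E i.succ, hmem _ _⟩ : ↥(grp L d)) * ⟨E 0 * E j.succ, hmem _ _⟩ =
        ⟨E i.succ * E j.succ, hmem _ _⟩ := Subtype.ext (by
      show E 0 * E i.succ * (E 0 * E j.succ) = _
      rw [(hEcomm 0 i.succ).eq, mul_assoc, ← mul_assoc (E 0), mul_self hT (hED 0), one_mul])
    rw [he2]
    exact hdisp _ _ (fun h => hij (Fin.succ_injective _ h)) _
  · have hcls : (cls' D L d).ncard = (coset D L d).ncard := by
      rw [← Set.ncard_image_of_injective (cls' D L d) (grp L d).subtype_injective]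
      congr 1
      ext y
      exact ⟨fun ⟨z, hz, hzy⟩ => hzy ▸ hz, fun hy => ⟨⟨y, (mem_grp hT hd).2 (Or.inr hy.2)⟩, hy, rfl⟩⟩
    obtain ⟨g, hg⟩ := hT.trans d hd e he
    have himg : coset D L e = (fun x => g * x * g⁻¹) '' coset D L d := by
      ext y
      constructor
      · intro hy
        refine ⟨g⁻¹ * y * g, ⟨by simpa using hT.conj g⁻¹ y hy.1, ?_⟩, by simp [mul_assoc]⟩
        rw [QuotientGroup.mk_mul, QuotientGroup.mk_mul, hy.2, ← hg]
        simp [mul_assoc]
      · rintro ⟨x, hx, rfl⟩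
        exact ⟨hT.conj g x hx.1, by rw [← hg]; simp only [QuotientGroup.mk_mul, hx.2]⟩
    have hconj : ∀ (f : G) {l y : G}, l ∈ L → y ∈ coset D L f → l * y * l⁻¹ ∈ coset D L f :=
      fun f l y hl hy => ⟨hT.conj l y hy.1, by
        rw [QuotientGroup.mk_mul, QuotientGroup.mk_mul, QuotientGroup.mk_inv, (QuotientGroup.eq_one_iff l).2 hl,
          one_mul, inv_one, mul_one, hy.2]⟩
    have h1 := Relations.card_conj_orbit (K := L) (X := coset D L d) (x := d) ⟨hd, rfl⟩
      (fun l hl y hy => hconj d hl hy) fun y hy => coset_orbit hT hL hd hy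
    have h2 := Relations.card_conj_orbit (K := L ⊓ Subgroup.centralizer ({d} : Set G)) (X := coset D L e) (x := e)
      ⟨he, rfl⟩ (fun l hl y hy => hconj e (Subgroup.mem_inf.1 hl).1 hy)
      fun y hy => other_orbit hT hL hd he (Ne.symm hed) hy
    rw [h2, Nat.card_coe_set_eq, Nat.card_coe_set_eq, himg,
      Set.ncard_image_of_injective _ (fun a b h => by simpa using h), ← mul_assoc, ← sq, ← hcls] at h1
    exact dvd_trans ⟨_, h1⟩ (Subgroup.card_dvd_of_le (le_grp hT hd))

end Cfsg.Lib.Fischer.Disconnected
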